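import Cfsg.Agent.Lib.Solv.TwoRankAbelian.Basic
import Cfsg.Agent.Lib.Fusion.WeakClosureFunctor
import Cfsg.Agent.Lib.Lead.Ward

/-!
Cores of invariant subgroups with two prime divisors, through Ward's theorem.
-/

set_option autoImplicit false
set_option linter.unusedSectionVars false

open scoped Pointwise
open Cfsg

namespace Cfsg.Agent.Solv.TwoRankAbelian

universe u

section Abstract

variable {X : Type u} [Group X] [Finite X]

theorem mem_pCore_of_nilpotent {p : ℕ} [hp : Fact p.Prime] (L : Subgroup X) [hL : L.Normal]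
    (hnil : Group.IsNilpotent L) {x : X} (hx : x ∈ L) {k : ℕ} (hxo : orderOf x = p ^ k) :
    x ∈ pCore p X := by
  obtain ⟨T⟩ : Nonempty (Sylow p L) := inferInstance
  have hTn : (T : Subgroup L).Normal :=
    ((Group.isNilpotent_of_finite_tfae (G := L)).out 0 3
      (a := Group.IsNilpotent L)
      (b := ∀ (q : ℕ) (_ : Fact q.Prime) (R : Sylow q L), (R : Subgroup L).Normal)).1 hnil p hp T
  have hTc : (T : Subgroup L).Characteristic := T.characteristic_of_normal hTn
  have hN : ((T : Subgroup L).map L.subtype).Normal := inferInstance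
  refine normal_le_pCore (T.isPGroup'.map L.subtype) ⟨⟨x, hx⟩, ?_, rfl⟩
  have hz : IsPGroup p (Subgroup.zpowers (⟨x, hx⟩ : L)) := IsPGroup.of_card (n := k) (by
    rw [Nat.card_zpowers, Subgroup.orderOf_mk, hxo])
  obtain ⟨T', hT'⟩ := hz.exists_le_sylow
  obtain ⟨g, hg⟩ := MulAction.exists_smul_eq L T' T
  have := hTn
  rw [← Sylow.smul_eq_of_normal (g := g⁻¹) (P := T), ← hg, inv_smul_smul]
  exact hT' (Subgroup.mem_zpowers _)

/-- In a `{p, s}`-group which is nilpotent over a normal nilpotent subgroup, a `p`-element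
centralising `O_s` lies in `O_p`. -/
theorem mem_pCore_of_centralizes {p s : ℕ} [hp : Fact p.Prime] [hs : Fact s.Prime]
    (hX : ∀ q : ℕ, q.Prime → q ∣ Nat.card X → q = p ∨ q = s) (N : Subgroup X) [N.Normal]
    (hN : Group.IsNilpotent N) (hQ : Group.IsNilpotent (X ⧸ N)) {x : X} {k : ℕ}
    (hxo : orderOf x = p ^ k) (hc : ∀ y ∈ pCore s X, Commute x y) : x ∈ pCore p X := by
  have hNle : N ≤ pCore p X ⊔ pCore s X := by
    refine (normal_le_fitting hN).trans ?_
    rw [fitting_eq_iSup_pCore]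
    refine iSup_le fun q => ?_
    have := Fact.mk q.2
    obtain ⟨j, hj⟩ := IsPGroup.iff_card.1 (pCore_isPGroup (G := X) (q : ℕ))
    rcases eq_or_ne j 0 with rfl | hj0
    · rw [pow_zero] at hj
      rw [Subgroup.card_eq_one.1 hj]
      exact bot_le
    rcases hX q q.2 ((dvd_pow_self _ hj0).trans (hj ▸ Subgroup.card_subgroup_dvd_card _)) with h | h
    · rw [h]; exact le_sup_left
    · rw [h]; exact le_sup_right
  have hpn : (pCore p X).Normal := pCore_normal p
  have hsn : (pCore s X).Normal := pCore_normal s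
  obtain ⟨C, hC⟩ : ∃ C, C = Subgroup.centralizer (pCore s X : Set X) := ⟨_, rfl⟩
  have hCn : C.Normal := hC ▸ Subgroup.normal_centralizer
  have hxC : x ∈ C := hC ▸ Subgroup.mem_centralizer_iff.2 fun y hy => (hc y hy).eq.symm
  obtain ⟨f, hf⟩ : ∃ f : X →* X ⧸ pCore p X, f = QuotientGroup.mk' (pCore p X) := ⟨_, rfl⟩
  have hker : ∀ y, f y = 1 ↔ y ∈ pCore p X := fun y => by
    rw [hf]; exact QuotientGroup.eq_one_iff y
  have hfs : Function.Surjective f := hf ▸ QuotientGroup.mk'_surjective _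
  have hM : (N.map f).Normal := Subgroup.Normal.map inferInstance f hfs
  have hQ2 : Group.IsNilpotent ((X ⧸ pCore p X) ⧸ N.map f) := by
    refine Group.nilpotent_of_surjective
      (f := QuotientGroup.map N (N.map f) f (Subgroup.le_comap_map f N)) ?_
    intro z
    obtain ⟨y, rfl⟩ := QuotientGroup.mk'_surjective (N.map f) z
    obtain ⟨w, rfl⟩ := hfs y
    exact ⟨QuotientGroup.mk' N w, rfl⟩
  have hCm : (C.map f).Normal := hCn.map f hfs
  have hnil : Group.IsNilpotent (C.map f) := by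
    haveI := hQ2
    refine Subgroup.isNilpotent_of_ker_le_center
      ((QuotientGroup.mk' (N.map f)).comp (C.map f).subtype) ?_
    intro y hy
    have hy' : (y : X ⧸ pCore p X) ∈ N.map f := (QuotientGroup.eq_one_iff _).1 hy
    obtain ⟨n, hn, e⟩ := hy'
    obtain ⟨u, hu, w, hw, rfl⟩ := Subgroup.mem_sup_of_normal_left.1 (hNle hn)
    rw [map_mul, (hker u).2 hu, one_mul] at e
    rw [Subgroup.mem_center_iff]
    rintro ⟨_, ⟨c, hc', rfl⟩⟩
    refine Subtype.ext ?_
    show f c * (y : X ⧸ pCore p X) = (y : X ⧸ pCore p X) * f c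
    rw [← e, ← map_mul, ← map_mul]
    rw [hC] at hc'
    exact congrArg f (Subgroup.mem_centralizer_iff.1 hc' w hw).symm
  obtain ⟨j, -, hj⟩ := (Nat.dvd_prime_pow hp.out).1 (hxo ▸ orderOf_map_dvd f x)
  have h1 := mem_pCore_of_nilpotent (C.map f) hnil (Subgroup.mem_map_of_mem f hxC) hj
  have hn2 := pCore_normal (G := X ⧸ pCore p X) p
  have h2 : (pCore p (X ⧸ pCore p X)).comap f ≤ pCore p X :=
    normal_le_pCore ((pCore_isPGroup p).comap_of_ker_isPGroup f
      (by rw [hf, QuotientGroup.ker_mk']; exact pCore_isPGroup p))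
  exact h2 h1

end Abstract

variable {Γ : Type u} [Group Γ] [Finite Γ]

theorem mem_normalizer_pCoreOf {p : ℕ} [Fact p.Prime] {H : Subgroup Γ} {g : Γ}
    (hg : g ∈ Subgroup.normalizer (H : Set Γ)) :
    g ∈ Subgroup.normalizer (pCoreOf p H : Set Γ) := by
  refine mem_normalizer_of_conj_smul
    (Subgroup.eq_of_le_of_card_ge (Fusion.le_pCoreOf ?_ ?_ ?_) (card_conj_smul _ _).ge)
  · exact (Subgroup.pointwise_smul_le_pointwise_smul_iff.2 (Fusion.pCoreOf_le H)).trans
      (conj_smul_of_mem_normalizer hg).le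
  · intro h hh
    have hh' : g⁻¹ * h * g ∈ H := by
      simpa using conj_mem_of_mem_normalizer (inv_mem hg) hh
    refine mem_normalizer_of_conj_smul ?_
    rw [conj_smul_conj, show h * g = g * (g⁻¹ * h * g) by group, ← conj_smul_conj,
      conj_smul_of_mem_normalizer (Fusion.le_normalizer_pCoreOf H hh')]
  · rw [conj_smul_eq_map]; exact (Fusion.pCoreOf_isPGroup H).map _

theorem pgroup_inf {p s : ℕ} [hp : Fact p.Prime] [hs : Fact s.Prime] (hps : p ≠ s)
    {U V : Subgroup Γ} (hU : IsPGroup p U) (hV : IsPGroup s V) : U ⊓ V = ⊥ := by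
  obtain ⟨i, hi⟩ := IsPGroup.iff_card.1 hU
  exact Fusion.coprime_inf_pGroup (hi ▸ ((Nat.coprime_primes hp.out hs.out).2 hps).pow_left i) hV

theorem pgroup_coprime {p s : ℕ} [hp : Fact p.Prime] [hs : Fact s.Prime] (hps : p ≠ s)
    {U : Subgroup Γ} (hU : IsPGroup p U) : (Nat.card U).Coprime s := by
  obtain ⟨i, hi⟩ := IsPGroup.iff_card.1 hU
  exact hi ▸ ((Nat.coprime_primes hp.out hs.out).2 hps).pow_left i

/-- Subgroups normalising each other with trivial intersection commute. -/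
theorem comm_of_normalize {U V : Subgroup Γ} (hUV : U ≤ Subgroup.normalizer (V : Set Γ))
    (hVU : V ≤ Subgroup.normalizer (U : Set Γ)) (h : U ⊓ V = ⊥) {x y : Γ} (hx : x ∈ U) (hy : y ∈ V) :
    Commute x y := by
  have h1 : x * y * x⁻¹ * y⁻¹ ∈ U := comm_mem_of_mem_normalizer (hVU hy) hx
  have h2 : x * y * x⁻¹ * y⁻¹ ∈ V := mul_mem (conj_mem_of_mem_normalizer (hUV hx) hy) (inv_mem hy)
  exact commutatorElement_eq_one_iff_mul_comm.1 (Subgroup.mem_bot.1 (h ▸ Subgroup.mem_inf.2 ⟨h1, h2⟩))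

namespace Ctx

variable {S : Ctx Γ}

theorem inv_core {p : ℕ} [Fact p.Prime] {M : Subgroup Γ} (hM : S.Inv M) : S.Inv (pCoreOf p M) :=
  ⟨(Fusion.pCoreOf_le M).trans hM.1, fun _ ha => mem_normalizer_pCoreOf (hM.2 ha)⟩

theorem core_le_syl {p : ℕ} [Fact p.Prime] {M : Subgroup Γ} (hM : S.Inv M) :
    pCoreOf p M ≤ S.syl p := le_syl (inv_core hM) (Fusion.pCoreOf_isPGroup M)

theorem core_comm {p s : ℕ} [Fact p.Prime] [Fact s.Prime] (hps : p ≠ s) (M : Subgroup Γ) :
    pCoreOf p M ≤ Subgroup.centralizer (pCoreOf s M : Set Γ) :=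
  le_centralizer_of fun _ hx _ hy => comm_of_normalize
    ((Fusion.pCoreOf_le M).trans (Fusion.le_normalizer_pCoreOf M))
    ((Fusion.pCoreOf_le M).trans (Fusion.le_normalizer_pCoreOf M))
    (pgroup_inf hps (Fusion.pCoreOf_isPGroup M) (Fusion.pCoreOf_isPGroup M)) hx hy

/-- The consequence of Ward's theorem: a `p`-element of a `{p, s}`-subgroup centralising `O_s` is in `O_p`. -/
theorem mem_core_of_centralizes {p s : ℕ} [hp : Fact p.Prime] [hs : Fact s.Prime] {M : Subgroup Γ}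
    (hM : S.Inv M) (hne : M ≠ S.K) (hPS : IsPi {p, s} M) {x : Γ} (hx : x ∈ M) (hxp : x ∈ S.syl p)
    (hc : ∀ y ∈ pCoreOf s M, Commute x y) : x ∈ pCoreOf p M := by
  have := Fact.mk S.hr
  have hsol := S.solv M hM.1 hM.2 hne
  obtain ⟨L, hL⟩ : ∃ L, L = M ⊔ S.A := ⟨_, rfl⟩
  have hML : M ≤ L := hL ▸ le_sup_left
  have hAL : S.A ≤ L := hL ▸ le_sup_right
  have hnorm : (M.subgroupOf L).Normal :=
    Subgroup.normal_subgroupOf_of_le_normalizer (hL ▸ sup_le Subgroup.le_normalizer hM.2)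
  obtain ⟨F, hF, hFn, hFq⟩ := Lead.Ward.ward_aux (p := S.r) _ (M.subgroupOf L) (S.A.subgroupOf L) rfl
    (isSolvable_subgroupOf hML hsol)
    (fun a ha b hb => Subtype.ext (comm ha hb).eq)
    (fun a ha => Subtype.ext (S.powA a ha))
    (by rw [card_subgroupOf hAL, S.cardA])
    (by
      rw [eq_bot_iff]
      rintro ⟨y, hyL⟩ ⟨hy, hyc⟩
      refine Subgroup.mem_bot.2 (Subtype.ext (S.fix y (hM.1 hy) fun a ha => ?_))
      exact (congrArg Subtype.val (Subgroup.mem_centralizer_iff.1 hyc ⟨a, hAL ha⟩ ha)).symm)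
  obtain ⟨e, he⟩ : ∃ e : M.subgroupOf L ≃* M, e = Subgroup.subgroupOfEquivOfLe hML := ⟨_, rfl⟩
  have hNn : (F.map e.toMonoidHom).Normal := hF.map _ e.surjective
  obtain ⟨j, hj⟩ := (syl_pgroup (S := S) p).exists_orderOf_eq_pow ⟨x, hxp⟩
  rw [Subgroup.orderOf_mk] at hj
  have key : (⟨x, hx⟩ : M) ∈ pCore p M :=
    mem_pCore_of_centralizes (s := s) (X := M)
      (fun q hq hd => by simpa using hPS q hq hd) (F.map e.toMonoidHom)
      (Group.nilpotent_of_mulEquiv (F.equivMapOfInjective e.toMonoidHom e.injective))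
      (Group.nilpotent_of_mulEquiv (QuotientGroup.congr F (F.map e.toMonoidHom) e rfl))
      (k := j) (by rw [Subgroup.orderOf_mk, hj])
      (fun y hy => Subtype.ext (hc y (Subgroup.mem_map_of_mem M.subtype hy)).eq)
  exact ⟨_, key, rfl⟩

theorem le_core_of_centralizes {p s : ℕ} [Fact p.Prime] [Fact s.Prime] {M U : Subgroup Γ}
    (hM : S.Inv M) (hne : M ≠ S.K) (hPS : IsPi {p, s} M) (hUM : U ≤ M) (hUp : U ≤ S.syl p)
    (hc : U ≤ Subgroup.centralizer (pCoreOf s M : Set Γ)) : U ≤ pCoreOf p M :=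
  fun _ hx => mem_core_of_centralizes hM hne hPS (hUM hx) (hUp hx)
    fun _ hy => comm_of_le_centralizer hc hx hy

/-- If `O_s(M) = 1`, the Sylow `p`-subgroup of `M` is `O_p(M)`. -/
theorem syl_le_core {p s : ℕ} [Fact p.Prime] [Fact s.Prime] {M : Subgroup Γ}
    (hM : S.Inv M) (hne : M ≠ S.K) (hPS : IsPi {p, s} M) (h0 : pCoreOf s M = ⊥) :
    M ⊓ S.syl p ≤ pCoreOf p M :=
  le_core_of_centralizes hM hne hPS inf_le_left inf_le_right
    (le_centralizer_of fun _ _ y hy => by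
      rw [h0, Subgroup.mem_bot] at hy
      rw [hy]
      exact Commute.one_right _)

theorem eq_bot_of_cores {p s : ℕ} [hp : Fact p.Prime] [hs : Fact s.Prime] {M : Subgroup Γ}
    (hM : S.Inv M) (hne : M ≠ S.K) (hPS : IsPi {p, s} M) (hp0 : pCoreOf p M = ⊥)
    (hs0 : pCoreOf s M = ⊥) : M = ⊥ := by
  refine eq_bot_iff.2 (le_of_syl hM fun q hq hd => ?_)
  rcases hPS q hq.out hd with rfl | rfl
  · exact (syl_le_core hM hne hPS hs0).trans hp0.le
  · exact (syl_le_core (s := p) hM hne (hPS.mono (Set.pair_comm p q).subset) hp0).trans hs0.le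

end Ctx

end Cfsg.Agent.Solv.TwoRankAbelian
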