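import Cfsg.Agent.Lib.Solv.TwoRankAbelian.Fpf
import Cfsg.Agent.Lib.Solv.CoprimeHall
import Cfsg.Agent.Lib.Solv.Cores

/-!
A group `A` of order `r²` and exponent `r` acting on `K` with abelian fixed-point subgroups and no
common fixed point: invariant Sylow and Hall subgroups, generation by centralisers, and the commutator lemma.
-/

set_option autoImplicit false
set_option linter.unusedSectionVars false

open scoped Pointwise

namespace Cfsg.Agent.Solv.TwoRankAbelian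

universe u

variable {Γ : Type u} [Group Γ]

/-- The primes of the order of `U` lie in `π`. -/
def IsPi (π : Set ℕ) (U : Subgroup Γ) : Prop := ∀ q : ℕ, q.Prime → q ∣ Nat.card U → q ∈ π

/-- The setting. -/
structure Ctx (Γ : Type u) [Group Γ] where
  r : ℕ
  K : Subgroup Γ
  A : Subgroup Γ
  hr : r.Prime
  cardA : Nat.card A = r ^ 2
  powA : ∀ a ∈ A, a ^ r = 1
  commA : IsMulCommutative A
  normK : A ≤ Subgroup.normalizer (K : Set Γ)
  cop : ¬ r ∣ Nat.card K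
  abel : ∀ a ∈ A, a ≠ 1 → ∀ x ∈ K, ∀ y ∈ K, Commute x a → Commute y a → Commute x y
  fix : ∀ x ∈ K, (∀ a ∈ A, Commute x a) → x = 1
  solv : ∀ H ≤ K, A ≤ Subgroup.normalizer (H : Set Γ) → H ≠ K → Group.IsSolvable H
  char_simple : ∀ N ≤ K, A ≤ Subgroup.normalizer (N : Set Γ) → K ≤ Subgroup.normalizer (N : Set Γ) →
    N = ⊥ ∨ N = K
  not_solv : ¬ Group.IsSolvable K

/-- `H ⊓ C(a)`. -/
def piece (a : Γ) (H : Subgroup Γ) : Subgroup Γ := H ⊓ Subgroup.centralizer ({a} : Set Γ)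

theorem mem_piece {a x : Γ} {H : Subgroup Γ} : x ∈ piece a H ↔ x ∈ H ∧ Commute x a :=
  Subgroup.mem_inf.trans (and_congr_right fun _ => Subgroup.mem_centralizer_singleton_iff)

theorem piece_le (a : Γ) (H : Subgroup Γ) : piece a H ≤ H := inf_le_left

theorem piece_mono (a : Γ) {H L : Subgroup Γ} (h : H ≤ L) : piece a H ≤ piece a L :=
  inf_le_inf_right _ h

theorem le_centralizer_of {U V : Subgroup Γ} (h : ∀ x ∈ U, ∀ y ∈ V, Commute x y) :
    U ≤ Subgroup.centralizer (V : Set Γ) := fun x hx =>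
  Subgroup.mem_centralizer_iff.2 fun y hy => (h x hx y hy).eq.symm

theorem comm_of_le_centralizer {U V : Subgroup Γ} (h : U ≤ Subgroup.centralizer (V : Set Γ))
    {x y : Γ} (hx : x ∈ U) (hy : y ∈ V) : Commute x y :=
  (Subgroup.mem_centralizer_iff.1 (h hx) y hy).symm

theorem centralizer_le_normalizer' (X : Subgroup Γ) :
    Subgroup.centralizer (X : Set Γ) ≤ Subgroup.normalizer (X : Set Γ) :=
  fun x hx => Subgroup.mem_normalizer_iff.2 fun y => by
    constructor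
    · intro hy
      rw [← Subgroup.mem_centralizer_iff.1 hx y hy, mul_assoc, mul_inv_cancel, mul_one]
      exact hy
    · intro hy
      have h := Subgroup.mem_centralizer_iff.1 hx _ hy
      have : x * y * x⁻¹ = y := by
        calc x * y * x⁻¹ = x⁻¹ * (x * (x * y * x⁻¹)) := by group
          _ = x⁻¹ * ((x * y * x⁻¹) * x) := by rw [h]
          _ = y := by group
      rwa [this] at hy

variable [Finite Γ]

theorem mem_normalizer_inf {g : Γ} {H L : Subgroup Γ} (hH : g ∈ Subgroup.normalizer (H : Set Γ))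
    (hL : g ∈ Subgroup.normalizer (L : Set Γ)) :
    g ∈ Subgroup.normalizer ((H ⊓ L : Subgroup Γ) : Set Γ) :=
  mem_normalizer_of_conj_smul (by
    rw [Subgroup.smul_inf, conj_smul_of_mem_normalizer hH, conj_smul_of_mem_normalizer hL])

theorem mem_normalizer_sup {g : Γ} {H L : Subgroup Γ} (hH : g ∈ Subgroup.normalizer (H : Set Γ))
    (hL : g ∈ Subgroup.normalizer (L : Set Γ)) :
    g ∈ Subgroup.normalizer ((H ⊔ L : Subgroup Γ) : Set Γ) :=
  mem_normalizer_of_conj_smul (by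
    rw [Subgroup.smul_sup, conj_smul_of_mem_normalizer hH, conj_smul_of_mem_normalizer hL])

theorem IsPi.mono {π π' : Set ℕ} {U : Subgroup Γ} (h : IsPi π U) (hππ' : π ⊆ π') : IsPi π' U :=
  fun q hq hd => hππ' (h q hq hd)

theorem IsPi.to_le {π : Set ℕ} {U V : Subgroup Γ} (h : IsPi π V) (hUV : U ≤ V) : IsPi π U :=
  fun q hq hd => h q hq (hd.trans (Subgroup.card_dvd_of_le hUV))

theorem isPi_of_pgroup {π : Set ℕ} {p : ℕ} [hp : Fact p.Prime] {U : Subgroup Γ} (h : IsPGroup p U)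
    (hpπ : p ∈ π) : IsPi π U := by
  obtain ⟨k, hk⟩ := IsPGroup.iff_card.1 h
  intro q hq hd
  rw [hk] at hd
  rwa [(Nat.prime_dvd_prime_iff_eq hq hp.out).1 (hq.dvd_of_dvd_pow hd)]

theorem coprime_of_isPi {π : Set ℕ} {U : Subgroup Γ} (h : IsPi π U) {n : ℕ}
    (hn : ∀ q : ℕ, q.Prime → q ∣ n → q ∉ π) : (Nat.card U).Coprime n :=
  coprime_of_pi h hn

theorem IsPi.sup {π : Set ℕ} {U V : Subgroup Γ} (hU : IsPi π U) (hV : IsPi π V)
    (h : V ≤ Subgroup.normalizer (U : Set Γ)) : IsPi π (U ⊔ V) := by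
  intro q hq hd
  have h2 : q ∣ Nat.card U * Nat.card V :=
    hd.trans (card_sup_mul_card_inf' U V h ▸ dvd_mul_right _ _)
  exact (hq.dvd_mul.1 h2).elim (hU q hq) (hV q hq)

namespace Ctx

variable (S : Ctx Γ)

/-- An `A`-invariant subgroup of `K`. -/
def Inv (H : Subgroup Γ) : Prop := H ≤ S.K ∧ S.A ≤ Subgroup.normalizer (H : Set Γ)

theorem solvA : Group.IsSolvable S.A :=
  have := S.commA
  Group.isSolvable_of_comm fun a b => mul_comm' a b

theorem cop_card {H : Subgroup Γ} (hH : H ≤ S.K) : (Nat.card S.A).Coprime (Nat.card H) := by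
  rw [S.cardA]
  exact ((S.hr.coprime_iff_not_dvd.2 S.cop).pow_left 2).coprime_dvd_right (Subgroup.card_dvd_of_le hH)

theorem inv_K : S.Inv S.K := ⟨le_rfl, S.normK⟩

theorem inv_bot : S.Inv ⊥ := ⟨bot_le, le_normalizer_of_conj fun b _ x hx => by
  rw [Subgroup.mem_bot.1 hx]; simp⟩

variable {S}

theorem Inv.inf {H L : Subgroup Γ} (hH : S.Inv H) (hL : S.Inv L) : S.Inv (H ⊓ L) :=
  ⟨inf_le_left.trans hH.1, fun _ ha => mem_normalizer_inf (hH.2 ha) (hL.2 ha)⟩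

theorem Inv.inf_norm {H X : Subgroup Γ} (hH : S.Inv H) (hX : S.A ≤ Subgroup.normalizer (X : Set Γ)) :
    S.Inv (H ⊓ Subgroup.normalizer (X : Set Γ)) :=
  ⟨inf_le_left.trans hH.1, fun a ha =>
    mem_normalizer_inf (hH.2 ha) (Subgroup.le_normalizer (hX ha))⟩

theorem Inv.inf_cent {H X : Subgroup Γ} (hH : S.Inv H) (hX : S.A ≤ Subgroup.normalizer (X : Set Γ)) :
    S.Inv (H ⊓ Subgroup.centralizer (X : Set Γ)) :=
  ⟨inf_le_left.trans hH.1, fun a ha =>
    mem_normalizer_inf (hH.2 ha) (FixedGen.centralizer_norm (hX ha))⟩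

theorem Inv.sup {H L : Subgroup Γ} (hH : S.Inv H) (hL : S.Inv L) : S.Inv (H ⊔ L) :=
  ⟨sup_le hH.1 hL.1, fun _ ha => mem_normalizer_sup (hH.2 ha) (hL.2 ha)⟩

theorem comm {a b : Γ} (ha : a ∈ S.A) (hb : b ∈ S.A) : Commute a b :=
  congrArg Subtype.val (S.commA.is_comm.comm ⟨a, ha⟩ ⟨b, hb⟩)

theorem Inv.piece {H : Subgroup Γ} (hH : S.Inv H) {a : Γ} (ha : a ∈ S.A) : S.Inv (piece a H) :=
  ⟨(piece_le a H).trans hH.1, fun b hb => mem_normalizer_inf (hH.2 hb)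
    (Subgroup.le_normalizer (Subgroup.mem_centralizer_singleton_iff.2 (comm hb ha).eq))⟩

theorem piece_comm {H L : Subgroup Γ} (hH : H ≤ S.K) (hL : L ≤ S.K) {a : Γ} (ha : a ∈ S.A)
    (ha1 : a ≠ 1) : piece a H ≤ Subgroup.centralizer (piece a L : Set Γ) :=
  le_centralizer_of fun x hx y hy => S.abel a ha ha1 x (hH (mem_piece.1 hx).1) y
    (hL (mem_piece.1 hy).1) (mem_piece.1 hx).2 (mem_piece.1 hy).2

theorem exists_out {a : Γ} (ha : a ∈ S.A) : ∃ b ∈ S.A, b ∉ Subgroup.zpowers a := by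
  by_contra h
  push Not at h
  have hd := Subgroup.card_dvd_of_le (show S.A ≤ Subgroup.zpowers a from h)
  rw [Nat.card_zpowers, S.cardA] at hd
  have h1 := Nat.le_of_dvd S.hr.pos (hd.trans (orderOf_dvd_of_pow_eq_one (S.powA a ha)))
  have := Nat.lt_mul_self_iff.2 S.hr.one_lt
  rw [pow_two] at h1
  omega

theorem out_ne_one {a b : Γ} (h : b ∉ Subgroup.zpowers a) : b ≠ 1 :=
  fun e => h (e ▸ one_mem _)

theorem mem_zpowers_symm {a b : Γ} (ha : a ∈ S.A) (hb1 : b ≠ 1) (h : b ∈ Subgroup.zpowers a) :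
    a ∈ Subgroup.zpowers b := by
  have := Fact.mk S.hr
  have hle : Subgroup.zpowers b ≤ Subgroup.zpowers a := Subgroup.zpowers_le.2 h
  have hb : b ^ S.r = 1 := by
    obtain ⟨k, rfl⟩ := Subgroup.mem_zpowers_iff.1 h
    rw [← zpow_natCast, ← zpow_mul, mul_comm, zpow_mul, zpow_natCast, S.powA a ha, one_zpow]
  have e := Subgroup.eq_of_le_of_card_ge hle (by
    rw [Nat.card_zpowers, Nat.card_zpowers, orderOf_eq_prime hb hb1]
    exact Nat.le_of_dvd S.hr.pos (orderOf_dvd_of_pow_eq_one (S.powA a ha)))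
  rw [e]
  exact Subgroup.mem_zpowers a

theorem commute_zpowers {x a b : Γ} (h : Commute x a) (hb : b ∈ Subgroup.zpowers a) : Commute x b := by
  obtain ⟨k, rfl⟩ := Subgroup.mem_zpowers_iff.1 hb
  exact h.zpow_right k

theorem sup_zpowers {a b : Γ} (ha : a ∈ S.A) (ha1 : a ≠ 1) (hb : b ∈ S.A)
    (hab : b ∉ Subgroup.zpowers a) : S.A = Subgroup.zpowers a ⊔ Subgroup.zpowers b := by
  refine (Subgroup.eq_of_le_of_card_ge (sup_le (Subgroup.zpowers_le.2 ha) (Subgroup.zpowers_le.2 hb)) ?_).symm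
  have := Fact.mk S.hr
  set B := Subgroup.zpowers a ⊔ Subgroup.zpowers b
  have h1 : Nat.card (Subgroup.zpowers a) = S.r := by
    rw [Nat.card_zpowers, orderOf_eq_prime (S.powA a ha) ha1]
  have hlt : Subgroup.zpowers a < B :=
    lt_of_le_of_ne le_sup_left fun e => hab (e ▸ Subgroup.mem_sup_right (Subgroup.mem_zpowers b))
  have h2 := card_lt_of_lt hlt
  obtain ⟨k, hk, e⟩ := (Nat.dvd_prime_pow S.hr).1
    (S.cardA ▸ Subgroup.card_dvd_of_le (show B ≤ S.A from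
      sup_le (Subgroup.zpowers_le.2 ha) (Subgroup.zpowers_le.2 hb)))
  rw [h1, e] at h2
  rw [S.cardA, e]
  have : 1 < k := by
    by_contra hk'
    have h4 : S.r ^ k ≤ S.r ^ 1 := Nat.pow_le_pow_right S.hr.pos (by omega)
    rw [pow_one] at h4
    omega
  exact Nat.pow_le_pow_right S.hr.pos this

theorem fix2 {a b x : Γ} (ha : a ∈ S.A) (ha1 : a ≠ 1) (hb : b ∈ S.A)
    (hab : b ∉ Subgroup.zpowers a) (hx : x ∈ S.K) (hxa : Commute x a) (hxb : Commute x b) : x = 1 := by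
  refine S.fix x hx fun c hc => ?_
  have h : S.A ≤ Subgroup.centralizer ({x} : Set Γ) := by
    rw [sup_zpowers ha ha1 hb hab, sup_le_iff, Subgroup.zpowers_le, Subgroup.zpowers_le]
    exact ⟨Subgroup.mem_centralizer_singleton_iff.2 hxa.eq.symm,
      Subgroup.mem_centralizer_singleton_iff.2 hxb.eq.symm⟩
  exact (Subgroup.mem_centralizer_singleton_iff.1 (h hc)).symm

theorem gen {H M : Subgroup Γ} (hH : S.Inv H) (h : ∀ a ∈ S.A, a ≠ 1 → piece a H ≤ M) : H ≤ M := by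
  rw [← gen_eq S.A H S.commA hH.2 (S.cop_card hH.1)]
  refine iSup₂_le fun B hB => ?_
  obtain ⟨hBA, a, ha, hsup⟩ := hB
  have hne : B ≠ ⊥ := fun e => by
    obtain ⟨b, hb, hab⟩ := exists_out ha
    rw [e, bot_sup_eq] at hsup
    exact hab (hsup.ge hb)
  obtain ⟨b, hb, hb1⟩ := B.bot_or_exists_ne_one.resolve_left hne
  exact (inf_le_inf_left H (Subgroup.centralizer_le (by simpa using hb))).trans (h b (hBA hb) hb1)

theorem exists_piece_ne_bot {H : Subgroup Γ} (hH : S.Inv H) (hne : H ≠ ⊥) :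
    ∃ a ∈ S.A, a ≠ 1 ∧ piece a H ≠ ⊥ := by
  by_contra h
  push Not at h
  exact hne (eq_bot_iff.2 (gen hH fun a ha ha1 => (h a ha ha1).le))

/-- There is only one invariant Sylow subgroup of each invariant subgroup. -/
theorem syl_unique {H P Q : Subgroup Γ} (hH : S.Inv H) {p : ℕ} [Fact p.Prime] (hP : IsSylIn p P H)
    (hQ : IsSylIn p Q H) (hPA : S.A ≤ Subgroup.normalizer (P : Set Γ))
    (hQA : S.A ≤ Subgroup.normalizer (Q : Set Γ)) : P = Q := by
  obtain ⟨c, hc, h⟩ := invariant_sylow_conj hH.2 (S.cop_card hH.1) (Or.inl S.solvA) hP hQ hPA hQA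
  rw [S.fix c (hH.1 hc.1) fun a ha => fixed_eq hc ha, conj_one_smul] at h
  exact h

theorem exists_syl (p : ℕ) [Fact p.Prime] :
    ∃ P : Subgroup Γ, IsSylIn p P S.K ∧ S.A ≤ Subgroup.normalizer (P : Set Γ) :=
  exists_invariant_sylow S.normK (S.cop_card le_rfl) (Or.inl S.solvA) p

variable (S) in
/-- The invariant Sylow subgroup. -/
noncomputable def syl (p : ℕ) [Fact p.Prime] : Subgroup Γ := (exists_syl (S := S) p).choose

theorem syl_isSylIn (p : ℕ) [Fact p.Prime] : IsSylIn p (S.syl p) S.K :=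
  (exists_syl (S := S) p).choose_spec.1

theorem syl_inv (p : ℕ) [Fact p.Prime] : S.Inv (S.syl p) :=
  ⟨(syl_isSylIn p).1, (exists_syl (S := S) p).choose_spec.2⟩

theorem syl_pgroup (p : ℕ) [Fact p.Prime] : IsPGroup p (S.syl p) := (syl_isSylIn p).isPGroup

theorem le_syl {p : ℕ} [Fact p.Prime] {U : Subgroup Γ} (hU : S.Inv U) (hUp : IsPGroup p U) :
    U ≤ S.syl p := by
  obtain ⟨P, hP, hUP, hPA⟩ :=
    exists_invariant_sylow_ge S.normK (S.cop_card le_rfl) (Or.inl S.solvA) U hU.1 hUp hU.2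
  rwa [syl_unique S.inv_K hP (syl_isSylIn p) hPA (syl_inv p).2] at hUP

theorem inf_syl_isSylIn {p : ℕ} [Fact p.Prime] {H : Subgroup Γ} (hH : S.Inv H) :
    IsSylIn p (H ⊓ S.syl p) H := by
  obtain ⟨P, hP, hPA⟩ := exists_invariant_sylow hH.2 (S.cop_card hH.1) (Or.inl S.solvA) p
  rwa [← hP.eq_of_le ((syl_pgroup p).to_le inf_le_right) inf_le_left
    (le_inf hP.1 (le_syl ⟨hP.1.trans hH.1, hPA⟩ hP.isPGroup))]

/-- An invariant subgroup is generated by its invariant Sylow subgroups. -/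
theorem le_of_syl {H M : Subgroup Γ} (hH : S.Inv H)
    (h : ∀ (p : ℕ) [Fact p.Prime], p ∣ Nat.card H → H ⊓ S.syl p ≤ M) : H ≤ M := by
  rw [← Subgroup.subgroupOf_eq_top]
  refine eq_top_of_forall_sylow_le _ fun p hp => ?_
  obtain ⟨Q, hQ⟩ := (inf_syl_isSylIn (S := S) (p := p) hH).exists_sylow
  refine ⟨Q, Subgroup.map_le_iff_le_comap.1 ?_⟩
  rw [hQ]
  by_cases hd : p ∣ Nat.card H
  · exact h p hd
  · have h2 := (inf_syl_isSylIn (S := S) (p := p) hH).2
    rw [Nat.factorization_eq_zero_of_not_dvd hd, pow_zero] at h2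
    rw [Subgroup.card_eq_one.1 h2]
    exact bot_le

/-- In a proper invariant subgroup there is a largest invariant `π`-subgroup. -/
theorem hall {H : Subgroup Γ} (hH : S.Inv H) (hne : H ≠ S.K) (π : Set ℕ) :
    ∃ T, S.Inv T ∧ T ≤ H ∧ IsPi π T ∧
      ∀ U, S.Inv U → U ≤ H → IsPi π U → U ≤ T := by
  have hsol := S.solv H hH.1 hH.2 hne
  have hco := S.cop_card hH.1
  obtain ⟨m, n, hmn, hcmn, hm, hn⟩ := exists_pi_split π (Nat.card H) Nat.card_pos.ne'
  obtain ⟨T, hTH, hTc, hTA⟩ := exists_invariant_hall hH.2 hco hsol hmn hcmn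
  refine ⟨T, ⟨hTH.trans hH.1, hTA⟩, hTH, fun q hq hd => hm q hq (hTc ▸ hd), fun U hU hUH hUπ => ?_⟩
  obtain ⟨T', hT'H, hT'c, hT'A, hUT'⟩ := invariant_hall_contain hH.2 hco hsol hmn hcmn U hUH hU.2
    (coprime_of_isPi hUπ hn)
  obtain ⟨c, hc, h⟩ := invariant_hall_conj hH.2 hco hsol hmn hcmn hT'H hT'c hT'A hTH hTc hTA
  rw [S.fix c (hH.1 hc.1) fun a ha => fixed_eq hc ha, conj_one_smul] at h
  exact h ▸ hUT'

theorem ne_K_of_solvable {H : Subgroup Γ} (h : Group.IsSolvable H) : H ≠ S.K :=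
  fun e => S.not_solv (e ▸ h)

theorem pgroup_ne_K {p : ℕ} [Fact p.Prime] {H : Subgroup Γ} (h : IsPGroup p H) : H ≠ S.K :=
  have := h.isNilpotent
  ne_K_of_solvable inferInstance

/-- The normaliser in `K` of a proper non-trivial invariant subgroup is proper. -/
theorem norm_ne_K {X : Subgroup Γ} (hX : S.Inv X) (hXb : X ≠ ⊥) (hXK : X ≠ S.K) :
    S.K ⊓ Subgroup.normalizer (X : Set Γ) ≠ S.K := fun e =>
  (S.char_simple X hX.1 hX.2 (e.ge.trans inf_le_right)).elim hXb hXK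

theorem cent_ne_K {X : Subgroup Γ} (hX : S.Inv X) (hXb : X ≠ ⊥) (hXK : X ≠ S.K) :
    S.K ⊓ Subgroup.centralizer (X : Set Γ) ≠ S.K := fun e =>
  norm_ne_K hX hXb hXK (le_antisymm inf_le_left
    (le_inf le_rfl ((e.ge.trans inf_le_right).trans (centralizer_le_normalizer' X))))

/-- If `R` centralises `C_V(a)`, then `[R, a]` centralises `V`. -/
theorem comm_centralizes {p : ℕ} [Fact p.Prime] {R V : Subgroup Γ} (hR : S.Inv R) (hV : S.Inv V)
    (hVp : IsPGroup p V) (hco : (Nat.card R).Coprime p) (hRV : R ≤ Subgroup.normalizer (V : Set Γ))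
    {a : Γ} (ha : a ∈ S.A) (h : ∀ v ∈ V, Commute v a → ∀ x ∈ R, Commute x v) :
    ∀ x ∈ R, x⁻¹ * (a * x * a⁻¹) ∈ Subgroup.centralizer (V : Set Γ) := by
  set C := Subgroup.centralizer (V : Set Γ)
  have hCn : ∀ x ∈ R, x ∈ Subgroup.normalizer (C : Set Γ) := fun x hx =>
    FixedGen.centralizer_norm (hRV hx)
  let T : Subgroup Γ :=
    { carrier := {x | x ∈ R ∧ x⁻¹ * (a * x * a⁻¹) ∈ C}
      one_mem' := ⟨one_mem _, by simp⟩
      mul_mem' := fun {x y} hx hy => ⟨mul_mem hx.1 hy.1, by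
        have := mul_mem (conj_mem_of_mem_normalizer (inv_mem (hCn y hy.1)) hx.2) hy.2
        rwa [show y⁻¹ * (x⁻¹ * (a * x * a⁻¹)) * y⁻¹⁻¹ * (y⁻¹ * (a * y * a⁻¹)) =
          (x * y)⁻¹ * (a * (x * y) * a⁻¹) by group] at this⟩
      inv_mem' := fun {x} hx => ⟨inv_mem hx.1, by
        have := inv_mem (conj_mem_of_mem_normalizer (hCn x hx.1) hx.2)
        rwa [show (x * (x⁻¹ * (a * x * a⁻¹)) * x⁻¹)⁻¹ = x⁻¹⁻¹ * (a * x⁻¹ * a⁻¹) by group] at this⟩ }
  suffices hle : R ≤ T from fun x hx => (hle hx).2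
  refine gen hR fun b hb hb1 => ?_
  set Rb := piece b R
  have hRb : S.Inv Rb := hR.piece hb
  have hcomm : ∀ x ∈ Rb, ∀ y ∈ Rb, Commute x y := fun x hx y hy =>
    S.abel b hb hb1 x (hRb.1 hx) y (hRb.1 hy) (mem_piece.1 hx).2 (mem_piece.1 hy).2
  have hca : ∀ x ∈ Rb, a * x * a⁻¹ ∈ Rb := fun x hx => conj_mem_of_mem_normalizer (hRb.2 ha) hx
  let R₁ : Subgroup Γ :=
    { carrier := {y | ∃ x ∈ Rb, y = x⁻¹ * (a * x * a⁻¹)}
      one_mem' := ⟨1, one_mem _, by simp⟩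
      mul_mem' := by
        rintro _ _ ⟨x, hx, rfl⟩ ⟨y, hy, rfl⟩
        refine ⟨y * x, mul_mem hy hx, ?_⟩
        have hz := hcomm (y⁻¹ * (a * y * a⁻¹)) (mul_mem (inv_mem hy) (hca y hy)) (a * x * a⁻¹) (hca x hx)
        calc x⁻¹ * (a * x * a⁻¹) * (y⁻¹ * (a * y * a⁻¹))
            = x⁻¹ * ((y⁻¹ * (a * y * a⁻¹)) * (a * x * a⁻¹)) := by rw [mul_assoc, ← hz.eq]
          _ = _ := by group
      inv_mem' := by
        rintro _ ⟨x, hx, rfl⟩
        refine ⟨x⁻¹, inv_mem hx, ?_⟩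
        have hz := hcomm x hx (a * x⁻¹ * a⁻¹) (hca _ (inv_mem hx))
        calc (x⁻¹ * (a * x * a⁻¹))⁻¹ = (a * x⁻¹ * a⁻¹) * x := by group
          _ = x * (a * x⁻¹ * a⁻¹) := hz.eq.symm
          _ = _ := by group }
  have hR₁b : R₁ ≤ Rb := by
    rintro _ ⟨x, hx, rfl⟩
    exact mul_mem (inv_mem hx) (hca x hx)
  have hR₁R : R₁ ≤ R := hR₁b.trans (piece_le b R)
  have hsub : R₁ ≤ Subgroup.centralizer (V : Set Γ) := by
    refine fpf_centralizes S.hr (S.powA a ha) hVp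
      (hco.coprime_dvd_left (Subgroup.card_dvd_of_le hR₁R)) ?_ (hR₁R.trans hRV) (hV.2 ha) ?_ ?_
      fun v hv hva x hx => h v hv hva x (hR₁R hx)
    · exact fun hd => S.cop (hd.trans (Subgroup.card_dvd_of_le hV.1))
    · refine mem_normalizer_of_conj_smul (Subgroup.eq_of_le_of_card_ge ?_ (card_conj_smul _ _).ge)
      intro y hy
      rw [mem_conj_smul] at hy
      obtain ⟨x, hx, e⟩ := hy
      refine ⟨a * x * a⁻¹, hca x hx, ?_⟩
      calc y = a * (a⁻¹ * y * a) * a⁻¹ := by group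
        _ = _ := by rw [e]; group
    · rintro _ ⟨x, hx, rfl⟩ hc
      obtain ⟨y, hy⟩ : ∃ y, y = x⁻¹ * (a * x * a⁻¹) := ⟨_, rfl⟩
      rw [← hy] at hc ⊢
      have hstep : a * x * a⁻¹ = x * y := by rw [hy]; group
      have hk : ∀ k : ℕ, a ^ k * x * (a ^ k)⁻¹ = x * y ^ k := by
        intro k
        induction k with
        | zero => simp
        | succ k ih =>
          calc a ^ (k + 1) * x * (a ^ (k + 1))⁻¹ = a * (a ^ k * x * (a ^ k)⁻¹) * a⁻¹ := by
                rw [pow_succ']; group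
            _ = (a * x * a⁻¹) * (a * y ^ k * a⁻¹) := by rw [ih]; group
            _ = x * y ^ (k + 1) := by
                rw [hstep, conj_eq_of_comm (hc.pow_left k), pow_succ', mul_assoc]
      have h1 := hk S.r
      rw [S.powA a ha, one_mul, inv_one, mul_one] at h1
      have hyr : y ^ S.r = 1 := mul_eq_left.1 h1.symm
      refine orderOf_eq_one_iff.1 (Nat.eq_one_of_dvd_coprimes
        (S.hr.coprime_iff_not_dvd.2 S.cop) (orderOf_dvd_of_pow_eq_one hyr) ?_)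
      exact Subgroup.orderOf_dvd_natCard S.K (hy ▸ mul_mem (inv_mem (hRb.1 hx)) (hRb.1 (hca x hx)))
  intro x hx
  exact ⟨piece_le b R hx, hsub ⟨x, hx, rfl⟩⟩

/-- A fixed-point-free `R` centralising `C_V(a)` centralises `V`. -/
theorem centralizes_of_fixfree {p : ℕ} [Fact p.Prime] {R V : Subgroup Γ} (hR : S.Inv R)
    (hV : S.Inv V) (hVp : IsPGroup p V) (hco : (Nat.card R).Coprime p)
    (hRV : R ≤ Subgroup.normalizer (V : Set Γ)) {a : Γ} (ha : a ∈ S.A)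
    (hRa : ∀ x ∈ R, Commute x a → x = 1) (h : ∀ v ∈ V, Commute v a → ∀ x ∈ R, Commute x v) :
    R ≤ Subgroup.centralizer (V : Set Γ) :=
  fpf_centralizes S.hr (S.powA a ha) hVp hco
    (fun hd => S.cop (hd.trans (Subgroup.card_dvd_of_le hV.1))) hRV (hV.2 ha) (hR.2 ha) hRa h

/-- If `C_R(a) = 1`, every element of `R` is of the form `y⁻¹ yᵃ`. -/
theorem exists_twist {R : Subgroup Γ} (hR : S.Inv R) {a : Γ} (ha : a ∈ S.A)
    (hRa : ∀ x ∈ R, Commute x a → x = 1) {f : Γ} (hf : f ∈ R) :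
    ∃ y ∈ R, f = y⁻¹ * (a * y * a⁻¹) := by
  let t : R → R := fun y => ⟨(y : Γ)⁻¹ * (a * y * a⁻¹),
    mul_mem (inv_mem y.2) (conj_mem_of_mem_normalizer (hR.2 ha) y.2)⟩
  have hinj : Function.Injective t := fun y z e => by
    have e' : (y : Γ)⁻¹ * (a * y * a⁻¹) = (z : Γ)⁻¹ * (a * z * a⁻¹) := congrArg Subtype.val e
    have h1 : a * ((y : Γ) * (z : Γ)⁻¹) * a⁻¹ = (y : Γ) * (z : Γ)⁻¹ := by
      calc a * ((y : Γ) * (z : Γ)⁻¹) * a⁻¹
          = (y : Γ) * ((y : Γ)⁻¹ * (a * y * a⁻¹)) * ((z : Γ)⁻¹ * (a * z * a⁻¹))⁻¹ * (z : Γ)⁻¹ := by group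
        _ = _ := by rw [e']; group
    exact Subtype.ext (mul_inv_eq_one.1 (hRa _ (mul_mem y.2 (inv_mem z.2)) (comm_of_conj_eq h1)))
  obtain ⟨y, hy⟩ := (Finite.injective_iff_surjective.1 hinj) ⟨f, hf⟩
  exact ⟨y, y.2, (congrArg Subtype.val hy).symm⟩

end Ctx

end Cfsg.Agent.Solv.TwoRankAbelian
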