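import Cfsg.Agent.Lib.Solv.FixedGen
import Cfsg.Agent.Lib.Solv.ThompsonFPF
import Cfsg.Agent.Lib.Solv.Engel
import Cfsg.Agent.Lib.Local.CentralizerTrick
import Cfsg.Agent.Lib.Fusion.Cores

/-!
An automorphism of prime order acting on a `p`-group and on a group of coprime order normalising it.
-/

set_option autoImplicit false

open scoped Pointwise

namespace Cfsg.Agent.Solv.TwoRankAbelian

universe u

variable {G : Type u} [Group G]

theorem le_normalizer_of_conj [Finite G] {B X : Subgroup G}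
    (h : ∀ b ∈ B, ∀ x ∈ X, b * x * b⁻¹ ∈ X) : B ≤ Subgroup.normalizer (X : Set G) := fun b hb =>
  mem_normalizer_of_conj_smul (Subgroup.eq_of_le_of_card_ge (fun y hy => by
    rw [mem_conj_smul] at hy
    simpa [mul_assoc] using h b hb _ hy) (card_conj_smul _ _).ge)

theorem comm_of_conj_eq {a x : G} (h : a * x * a⁻¹ = x) : Commute x a := by
  calc x * a = a * x * a⁻¹ * a := by rw [h]
    _ = a * x := by group

theorem conj_eq_of_comm {a x : G} (h : Commute x a) : a * x * a⁻¹ = x := by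
  rw [← h.eq]; group

theorem fixed_eq {B X : Subgroup G} {x : G} (h : x ∈ X ⊓ Subgroup.centralizer (B : Set G)) {b : G}
    (hb : b ∈ B) : Commute x b :=
  (Subgroup.mem_centralizer_iff.1 h.2 b hb).symm

theorem mem_normalizer_subgroupOf [Finite G] {L X : Subgroup G} {g : L}
    (hg : (g : G) ∈ Subgroup.normalizer (X : Set G)) :
    g ∈ Subgroup.normalizer ((X.subgroupOf L : Subgroup L) : Set L) :=
  (Subgroup.mem_normalizer_iff).2 fun x => by
    simp only [Subgroup.mem_subgroupOf, Subgroup.coe_mul, Subgroup.coe_inv]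
    exact Subgroup.mem_normalizer_iff.1 hg x

/-- An element moved by `a` within a normalised coset is moved by every power within it. -/
theorem zpow_coset_mem {W : Subgroup G} {a v : G} (ha : a ∈ Subgroup.normalizer (W : Set G))
    (hv : v⁻¹ * (a * v * a⁻¹) ∈ W) (k : ℤ) : v⁻¹ * (a ^ k * v * (a ^ k)⁻¹) ∈ W := by
  let S : Subgroup G :=
    { carrier := {b | b ∈ Subgroup.normalizer (W : Set G) ∧ v⁻¹ * (b * v * b⁻¹) ∈ W}
      one_mem' := ⟨one_mem _, by simp⟩
      mul_mem' := fun {b c} hb hc => ⟨mul_mem hb.1 hc.1, by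
        have h := mul_mem hb.2 (conj_mem_of_mem_normalizer hb.1 hc.2)
        rwa [show v⁻¹ * (b * v * b⁻¹) * (b * (v⁻¹ * (c * v * c⁻¹)) * b⁻¹) =
          v⁻¹ * (b * c * v * (b * c)⁻¹) by group] at h⟩
      inv_mem' := fun {b} hb => ⟨inv_mem hb.1, by
        have h := conj_mem_of_mem_normalizer (inv_mem hb.1) (inv_mem hb.2)
        rwa [show b⁻¹ * (v⁻¹ * (b * v * b⁻¹))⁻¹ * b⁻¹⁻¹ = v⁻¹ * (b⁻¹ * v * b⁻¹⁻¹) by group] at h⟩ }
  exact (S.zpow_mem (show a ∈ S from ⟨ha, hv⟩) k).2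

variable [Finite G]

/-- The key observation: if `a` is fixed-point-free on `V` and on `R`, then it is on `VR`. -/
theorem fpf_commute {p r : ℕ} [Fact p.Prime] {V R : Subgroup G} {a : G} (hr : r.Prime)
    (har : a ^ r = 1) (hV : IsPGroup p V) (hR : (Nat.card R).Coprime p)
    (hRV : R ≤ Subgroup.normalizer (V : Set G)) (haV : a ∈ Subgroup.normalizer (V : Set G))
    (haR : a ∈ Subgroup.normalizer (R : Set G)) (hVa : ∀ v ∈ V, Commute v a → v = 1)
    (hRa : ∀ x ∈ R, Commute x a → x = 1) : ∀ x ∈ R, ∀ v ∈ V, Commute x v := by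
  obtain ⟨k, hk⟩ := IsPGroup.iff_card.1 hV
  have hcard : (Nat.card V).Coprime (Nat.card R) := hk ▸ hR.symm.pow_left k
  have hVR : V ⊓ R = ⊥ := coprime_inf hcard
  have hmem : ∀ z : G, z ∈ V ⊔ R → ∃ v ∈ V, ∃ x ∈ R, v * x = z := by
    intro z hz
    have : z ∈ ((V : Set G) * (R : Set G)) := by
      rw [← Subgroup.coe_mul_of_right_le_normalizer_left V R hRV]; exact hz
    exact Set.mem_mul.1 this
  have hfix : (V ⊔ R) ⊓ Subgroup.centralizer ({a} : Set G) = ⊥ := by
    rw [eq_bot_iff]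
    rintro z ⟨hz, hza⟩
    obtain ⟨v, hv, x, hx, rfl⟩ := hmem z hz
    have hc : Commute (v * x) a := Subgroup.mem_centralizer_singleton_iff.1 hza
    have e0 : (a * v * a⁻¹) * (a * x * a⁻¹) = v * x := by
      rw [← conj_eq_of_comm hc]; group
    have e1 : v⁻¹ * (a * v * a⁻¹) = x * (a * x * a⁻¹)⁻¹ := by
      calc v⁻¹ * (a * v * a⁻¹) = v⁻¹ * ((a * v * a⁻¹) * (a * x * a⁻¹)) * (a * x * a⁻¹)⁻¹ := by group
        _ = _ := by rw [e0]; group
    have h1 : v⁻¹ * (a * v * a⁻¹) ∈ V ⊓ R :=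
      Subgroup.mem_inf.2 ⟨V.mul_mem (V.inv_mem hv) (conj_mem_of_mem_normalizer haV hv),
        e1 ▸ R.mul_mem hx (R.inv_mem (conj_mem_of_mem_normalizer haR hx))⟩
    rw [hVR, Subgroup.mem_bot] at h1
    have h2 := e1.symm.trans h1
    rw [hVa v hv (comm_of_conj_eq (inv_mul_eq_one.1 h1).symm),
      hRa x hx (comm_of_conj_eq (mul_inv_eq_one.1 h2).symm), mul_one]
    exact one_mem _
  have haN : a ∈ Subgroup.normalizer ((V ⊔ R : Subgroup G) : Set G) :=
    mem_normalizer_of_conj_smul (by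
      rw [Subgroup.smul_sup, conj_smul_of_mem_normalizer haV, conj_smul_of_mem_normalizer haR])
  have hnil := fpf_nilpotent (V ⊔ R) a hr har haN hfix
  intro x hx v hv
  obtain ⟨j, hj⟩ := hV.exists_orderOf_eq_pow ⟨v, hv⟩
  rw [Subgroup.orderOf_mk] at hj
  exact (congrArg Subtype.val
    (commute_of_coprime_nilpotent (p := p) (k := j) (u := (⟨v, Subgroup.mem_sup_left hv⟩ : ↥(V ⊔ R)))
      (v := ⟨x, Subgroup.mem_sup_right hx⟩) (by rw [Subgroup.orderOf_mk]; exact hj) (by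
        rw [Subgroup.orderOf_mk]
        exact hR.coprime_dvd_left (Subgroup.orderOf_dvd_natCard R hx))).eq).symm

/-- The key observation modulo a normal subgroup. -/
theorem fpf_commute_mod {p r : ℕ} [Fact p.Prime] {W X R : Subgroup G} [W.Normal] {a : G}
    (hr : r.Prime) (har : a ^ r = 1) (hX : IsPGroup p X) (hR : (Nat.card R).Coprime p)
    (hRX : R ≤ Subgroup.normalizer (X : Set G)) (haX : a ∈ Subgroup.normalizer (X : Set G))
    (haR : a ∈ Subgroup.normalizer (R : Set G))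
    (hXa : ∀ v ∈ X, v⁻¹ * (a * v * a⁻¹) ∈ W → v ∈ W)
    (hRa : ∀ x ∈ R, x⁻¹ * (a * x * a⁻¹) ∈ W → x ∈ W) :
    ∀ x ∈ R, ∀ v ∈ X, x * v * x⁻¹ * v⁻¹ ∈ W := by
  obtain ⟨f, hf⟩ : ∃ f : G →* G ⧸ W, f = QuotientGroup.mk' W := ⟨_, rfl⟩
  have hker : ∀ u, f u = 1 ↔ u ∈ W := fun u => by
    rw [hf]; exact QuotientGroup.eq_one_iff u
  have hnorm : ∀ {H : Subgroup G} {g : G}, g ∈ Subgroup.normalizer (H : Set G) →
      f g ∈ Subgroup.normalizer ((H.map f : Subgroup (G ⧸ W)) : Set (G ⧸ W)) := fun {H g} hg =>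
    mem_normalizer_of_conj_smul (by rw [← map_conj_smul, conj_smul_of_mem_normalizer hg])
  have hfix : ∀ {H : Subgroup G}, (∀ v ∈ H, v⁻¹ * (a * v * a⁻¹) ∈ W → v ∈ W) →
      ∀ y ∈ H.map f, Commute y (f a) → y = 1 := by
    rintro H hH _ ⟨v, hv, rfl⟩ hc
    refine (hker v).2 (hH v hv ((hker _).1 ?_))
    rw [map_mul, map_mul, map_mul, map_inv, map_inv, conj_eq_of_comm hc, inv_mul_cancel]
  have key := fpf_commute (p := p) (V := X.map f) (R := R.map f) (a := f a) hr
    (by rw [← map_pow, har, map_one]) (hX.map f) (Nat.Coprime.coprime_dvd_left (Subgroup.card_map_dvd R f) hR)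
    (by rintro _ ⟨x, hx, rfl⟩; exact hnorm (hRX hx)) (hnorm haX) (hnorm haR) (hfix hXa) (hfix hRa)
  intro x hx v hv
  refine (hker _).1 ?_
  rw [map_mul, map_mul, map_mul, map_inv, map_inv,
    (key _ (Subgroup.mem_map_of_mem f hx) _ (Subgroup.mem_map_of_mem f hv)).eq]
  group

/-- If `a` is fixed-point-free on `R`, and `R` centralises `C_V(a)`, then `R` centralises `V`. -/
theorem fpf_centralizes {p r : ℕ} [Fact p.Prime] {V R : Subgroup G} {a : G} (hr : r.Prime)
    (har : a ^ r = 1) (hV : IsPGroup p V) (hR : (Nat.card R).Coprime p) (hVr : ¬ r ∣ Nat.card V)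
    (hRV : R ≤ Subgroup.normalizer (V : Set G)) (haV : a ∈ Subgroup.normalizer (V : Set G))
    (haR : a ∈ Subgroup.normalizer (R : Set G)) (hRa : ∀ x ∈ R, Commute x a → x = 1)
    (hVa : ∀ v ∈ V, Commute v a → ∀ x ∈ R, Commute x v) :
    R ≤ Subgroup.centralizer (V : Set G) := by
  set W := V ⊓ Subgroup.centralizer (R : Set G) with hW
  suffices h : W = V by
    intro x hx
    exact Subgroup.mem_centralizer_iff.2 fun v hv => (fixed_eq (h.ge hv) hx).eq
  by_contra hne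
  have hWV : W < V := lt_of_le_of_ne inf_le_left hne
  obtain ⟨x₀, hx₀, hx₀W⟩ := SetLike.exists_of_lt
    (Fusion.SylIn.normalizer_growth (T := W) hWV.le hne hV)
  set X := V ⊓ Subgroup.normalizer (W : Set G) with hX
  have hWX : W ≤ X := le_inf hWV.le Subgroup.le_normalizer
  have hRW : R ≤ Subgroup.normalizer (W : Set G) := le_normalizer_of_conj fun x hx w hw => by
    rw [conj_eq_of_comm (fixed_eq hw hx)]; exact hw
  have hWn : ∀ g ∈ Subgroup.normalizer (V : Set G), g ∈ Subgroup.normalizer (R : Set G) →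
      g ∈ Subgroup.normalizer (W : Set G) := fun g h1 h2 => mem_normalizer_of_conj_smul (by
    rw [hW, Subgroup.smul_inf, conj_smul_of_mem_normalizer h1,
      conj_smul_of_mem_normalizer (FixedGen.centralizer_norm h2)])
  have haW := hWn a haV haR
  have hXn : ∀ g ∈ Subgroup.normalizer (V : Set G), g ∈ Subgroup.normalizer (W : Set G) →
      g ∈ Subgroup.normalizer (X : Set G) := fun g h1 h2 => mem_normalizer_of_conj_smul (by
    rw [hX, Subgroup.smul_inf, conj_smul_of_mem_normalizer h1,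
      Subgroup.conj_smul_eq_self_of_mem h2])
  have hXV : X ≤ V := inf_le_left
  have hXp : IsPGroup p X := hV.to_le hXV
  have hfa : ∀ (H : Subgroup G), ¬ r ∣ Nat.card H →
      (Nat.card (Subgroup.zpowers a)).Coprime (Nat.card H) := fun H h => by
    rw [Nat.card_zpowers]
    exact (hr.coprime_iff_not_dvd.2 h).coprime_dvd_left (orderOf_dvd_of_pow_eq_one har)
  have hsolA : Group.IsSolvable (Subgroup.zpowers a) := Group.isSolvable_of_comm fun s t => by
    obtain ⟨_, i, rfl⟩ := s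
    obtain ⟨_, j, rfl⟩ := t
    exact Subtype.ext (zpow_mul_comm a i j)
  -- pass to `N(W) / W`
  obtain ⟨L, hL⟩ : ∃ L, L = Subgroup.normalizer (W : Set G) := ⟨_, rfl⟩
  have hWL : W ≤ L := hL ▸ Subgroup.le_normalizer
  have : (W.subgroupOf L).Normal := Subgroup.normal_subgroupOf_of_le_normalizer hL.le
  have hRL : R ≤ L := hL ▸ hRW
  have hXL : X ≤ L := hL ▸ inf_le_right
  have haL : a ∈ L := hL ▸ haW
  have hVr' : ¬ r ∣ Nat.card X := fun h => hVr (h.trans (Subgroup.card_dvd_of_le hXV))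
  have hWR : W ⊓ R = ⊥ := by
    rw [inf_comm]; exact Fusion.coprime_inf_pGroup hR (hV.to_le hWV.le)
  have key := fpf_commute_mod (G := L) (p := p) (W := W.subgroupOf L) (X := X.subgroupOf L)
    (R := R.subgroupOf L) (a := ⟨a, haL⟩) hr (Subtype.ext har) (hXp.comap_subtype (K := L))
    (by rwa [card_subgroupOf hRL])
    (fun u hu => mem_normalizer_subgroupOf (hXn u (hRV hu) (hRW hu)))
    (mem_normalizer_subgroupOf (hXn a haV haW)) (mem_normalizer_subgroupOf haR)
    (fun v hv hd => by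
      obtain ⟨c, hc1, hc2⟩ := exists_fixed_in_coset' (Subgroup.zpowers a) X W
        (Subgroup.zpowers_le.2 (hXn a haV haW)) (hfa X hVr') (Or.inl hsolA) hWX
        (Subgroup.zpowers_le.2 haW) hv (fun b hb => by
          obtain ⟨k, rfl⟩ := Subgroup.mem_zpowers_iff.1 hb
          exact zpow_coset_mem haW hd k)
      have hcW : c ∈ W := ⟨hXV hc1.1, Subgroup.mem_centralizer_iff.2 fun x hx =>
        hVa c (hXV hc1.1) (fixed_eq hc1 (Subgroup.mem_zpowers a)) x hx⟩
      show (v : G) ∈ W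
      have : c * ((v : G)⁻¹ * c)⁻¹ ∈ W := W.mul_mem hcW (W.inv_mem hc2)
      rwa [show c * ((v : G)⁻¹ * c)⁻¹ = (v : G) by group] at this)
    (fun v hv hd => by
      have h1 : (v : G)⁻¹ * (a * v * a⁻¹) ∈ W ⊓ R :=
        Subgroup.mem_inf.2 ⟨hd, R.mul_mem (R.inv_mem hv) (conj_mem_of_mem_normalizer haR hv)⟩
      rw [hWR, Subgroup.mem_bot] at h1
      show (v : G) ∈ W
      rw [hRa v hv (comm_of_conj_eq (inv_mul_eq_one.1 h1).symm)]
      exact one_mem _)
  refine hx₀W ⟨hx₀.1, Subgroup.mem_centralizer_iff.2 fun y hy => ?_⟩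
  have hz : y * x₀ * y⁻¹ * x₀⁻¹ ∈ W := key ⟨y, hRL hy⟩ hy ⟨x₀, hXL hx₀⟩ hx₀
  obtain ⟨j, hj⟩ := hV.exists_orderOf_eq_pow ⟨_, hWV.le hz⟩
  rw [Subgroup.orderOf_mk] at hj
  refine (CentTrick.commute_of_step (fixed_eq hz hy).symm (by group) ?_).eq
  rw [hj]
  exact (hR.coprime_dvd_left (Subgroup.orderOf_dvd_natCard R hy)).pow_right j

end Cfsg.Agent.Solv.TwoRankAbelian
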