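import Cfsg.Agent.Lib.Solv.TwoRankAbelian.Pairs
import Cfsg.Agent.Lib.Solv.SetMul

/-!
A group acted on coprimely by a group of type `(r, r)` with abelian fixed-point subgroups is solvable.
-/

set_option autoImplicit false
set_option linter.unusedSectionVars false

open scoped Pointwise
open Cfsg

namespace Cfsg.Agent.Solv.TwoRankAbelian

universe u

variable {Γ : Type u} [Group Γ] [Finite Γ]

namespace Ctx

variable {S : Ctx Γ}

/-- The invariant Sylow subgroups permute. -/
theorem syl_mul_comm (p s : ℕ) [hp : Fact p.Prime] [hs : Fact s.Prime] :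
    (S.syl p : Set Γ) * (S.syl s : Set Γ) = (S.syl s : Set Γ) * (S.syl p : Set Γ) := by
  by_cases hps : p = s
  · subst hps; rfl
  obtain ⟨U, hU, hπ, hpU, hsU⟩ : ∃ U, S.Inv U ∧ IsPi {p, s} U ∧ S.syl p ≤ U ∧ S.syl s ≤ U := by
    by_contra h
    exact not_bad hps fun U hU hπ h1 h2 => h ⟨U, hU, hπ, h1, h2⟩
  have key : ∀ {P Q : Subgroup Γ}, P ≤ U → Q ≤ U → P ⊓ Q = ⊥ → Nat.card U ∣ Nat.card P * Nat.card Q →
      (P : Set Γ) * (Q : Set Γ) = (U : Set Γ) := by
    intro P Q hP hQ hPQ hd
    have h1 := card_mul_set_mul_card_inf P Q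
    rw [hPQ, Subgroup.card_bot, mul_one] at h1
    refine Set.eq_of_subset_of_ncard_le ?_ ?_ (Set.toFinite _)
    · rintro _ ⟨x, hx, y, hy, rfl⟩
      exact U.mul_mem (hP hx) (hQ hy)
    · rw [← Nat.card_coe_set_eq, ← Nat.card_coe_set_eq, h1]
      exact Nat.le_of_dvd (Nat.mul_pos Nat.card_pos Nat.card_pos) hd
  have hd : Nat.card U ∣ Nat.card (S.syl p) * Nat.card (S.syl s) := by
    rw [(syl_isSylIn p).2, (syl_isSylIn s).2, Nat.dvd_iff_prime_pow_dvd_dvd]
    intro q k hq hk
    rcases eq_or_ne k 0 with rfl | hk0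
    · simp
    have h1 := (hq.pow_dvd_iff_le_factorization Nat.card_pos.ne').1
      (hk.trans (Subgroup.card_dvd_of_le hU.1))
    rcases hπ q hq ((dvd_pow_self q hk0).trans hk) with rfl | rfl
    · exact dvd_mul_of_dvd_left (pow_dvd_pow _ h1) _
    · exact dvd_mul_of_dvd_right (pow_dvd_pow _ h1) _
  rw [key hpU hsU (pgroup_inf hps (syl_pgroup p) (syl_pgroup s)) hd,
    key hsU hpU (pgroup_inf (Ne.symm hps) (syl_pgroup s) (syl_pgroup p)) (mul_comm (Nat.card (S.syl p)) _ ▸ hd)]

variable (S) in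
/-- Products of invariant Sylow subgroups. -/
theorem exists_product (F : Finset ℕ) (hF : ∀ t ∈ F, t.Prime) :
    ∃ X : Subgroup Γ, S.Inv X ∧ IsPi (F : Set ℕ) X ∧
      (∀ (t : ℕ) [Fact t.Prime], t ∈ F → S.syl t ≤ X) ∧
      ∀ (u : ℕ) [Fact u.Prime], (X : Set Γ) * (S.syl u : Set Γ) = (S.syl u : Set Γ) * (X : Set Γ) := by
  induction F using Finset.induction_on with
  | empty =>
    refine ⟨⊥, S.inv_bot, fun q hq hd => ?_, fun t _ ht => absurd ht (Finset.notMem_empty t), fun u _ => ?_⟩
    · rw [Subgroup.card_bot] at hd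
      exact absurd (Nat.dvd_one.1 hd) hq.ne_one
    · rw [Subgroup.coe_bot, Set.singleton_mul, Set.mul_singleton]
      simp
  | insert t F _ ih =>
    obtain ⟨X, hX, hπ, hle, hcomm⟩ := ih fun q hq => hF q (Finset.mem_insert_of_mem hq)
    haveI := Fact.mk (hF t (Finset.mem_insert_self t F))
    set P := S.syl t
    have hXP := hcomm t
    let Y : Subgroup Γ :=
      { carrier := (X : Set Γ) * (P : Set Γ)
        one_mem' := ⟨1, one_mem _, 1, one_mem _, one_mul 1⟩
        mul_mem' := by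
          rintro _ _ ⟨x, hx, a, ha, rfl⟩ ⟨y, hy, b, hb, rfl⟩
          obtain ⟨y', hy', a', ha', e⟩ : a * y ∈ (X : Set Γ) * (P : Set Γ) :=
            hXP ▸ Set.mul_mem_mul ha hy
          refine ⟨x * y', X.mul_mem hx hy', a' * b, P.mul_mem ha' hb, ?_⟩
          show x * y' * (a' * b) = x * a * (y * b)
          calc x * y' * (a' * b) = x * (y' * a') * b := by group
            _ = _ := by rw [show y' * a' = a * y from e]; group
        inv_mem' := by
          rintro _ ⟨x, hx, a, ha, rfl⟩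
          show (x * a)⁻¹ ∈ (X : Set Γ) * (P : Set Γ)
          rw [hXP, mul_inv_rev]
          exact Set.mul_mem_mul (P.inv_mem ha) (X.inv_mem hx) }
    have hY : Y = X ⊔ P := le_antisymm
      (by rintro _ ⟨x, hx, a, ha, rfl⟩; exact Subgroup.mul_mem_sup hx ha)
      (sup_le (fun x hx => ⟨x, hx, 1, one_mem _, mul_one x⟩) fun a ha => ⟨1, one_mem _, a, ha, one_mul a⟩)
    refine ⟨Y, hY ▸ hX.sup (syl_inv t), fun q hq hd => ?_, fun q _ hq => ?_, fun u _ => ?_⟩
    · have h1 : Nat.card Y * Nat.card (X ⊓ P : Subgroup Γ) = Nat.card X * Nat.card P :=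
        card_mul_set_mul_card_inf X P
      rw [Finset.coe_insert]
      rcases hq.dvd_mul.1 (hd.trans (h1 ▸ dvd_mul_right _ _)) with h | h
      · exact Or.inr (hπ q hq h)
      · exact Or.inl (isPi_of_pgroup (π := {t}) (syl_pgroup t) rfl q hq h)
    · rcases Finset.mem_insert.1 hq with rfl | hq
      · exact hY ▸ le_sup_right
      · exact hY ▸ (hle q hq).trans le_sup_left
    · show (X : Set Γ) * (P : Set Γ) * _ = _ * ((X : Set Γ) * (P : Set Γ))
      rw [mul_assoc, syl_mul_comm t u, ← mul_assoc, hcomm u, mul_assoc]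

/-- The product of all invariant Sylow subgroups for primes other than `p`. -/
theorem exists_complement (p : ℕ) [Fact p.Prime] :
    ∃ X : Subgroup Γ, S.Inv X ∧ IsPi {q | q ≠ p} X ∧
      ∀ (t : ℕ) [Fact t.Prime], t ≠ p → S.syl t ≤ X := by
  obtain ⟨X, hX, hπ, hle, -⟩ := exists_product S ((Nat.card S.K).primeFactors.erase p)
    fun t ht => Nat.prime_of_mem_primeFactors (Finset.mem_of_mem_erase ht)
  refine ⟨X, hX, hπ.mono fun q hq => (Finset.mem_erase.1 hq).1, fun t ht htp => ?_⟩
  by_cases hd : t ∣ Nat.card S.K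
  · exact hle t (Finset.mem_erase.2 ⟨htp, Nat.mem_primeFactors.2 ⟨ht.out, hd, Nat.card_pos.ne'⟩⟩)
  · rw [show S.syl t = ⊥ from not_not.1 fun h => hd (dvd_of_syl h)]
    exact bot_le

theorem exists_prime_other (a b : ℕ) : ∃ q : ℕ, q.Prime ∧ q ∣ Nat.card S.K ∧ q ≠ a ∧ q ≠ b := by
  by_contra h
  push Not at h
  rcases em (a.Prime) with ha | ha <;> rcases em (b.Prime) with hb | hb
  · exact S.not_solv (Char.isSolvable_of_two_primes ha hb _ rfl fun q hq hd => or_iff_not_imp_left.2 (h q hq hd))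
  · exact S.not_solv (Char.isSolvable_of_two_primes ha ha _ rfl fun q hq hd =>
      or_iff_not_imp_left.2 fun hqa => absurd ((h q hq hd hqa) ▸ hq) hb)
  · exact S.not_solv (Char.isSolvable_of_two_primes hb hb _ rfl fun q hq hd =>
      Or.inl (h q hq hd fun hqa => ha (hqa ▸ hq)))
  · exact S.not_solv (Char.isSolvable_of_two_primes Nat.prime_two Nat.prime_two _ rfl fun q hq hd =>
      absurd ((h q hq hd fun hqa => ha (hqa ▸ hq)) ▸ hq) hb)

theorem contradiction (S : Ctx Γ) : False := by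
  obtain ⟨p, hp, hpd, -, -⟩ := exists_prime_other (S := S) 0 0
  haveI := Fact.mk hp
  obtain ⟨X, hX, hXπ, hXle⟩ := exists_complement (S := S) p
  have hXK : X ≠ S.K := fun e => hXπ p hp (e ▸ hpd) rfl
  have hXs := S.solv X hX.1 hX.2 hXK
  obtain ⟨q, hq, hqd, hqp, -⟩ := exists_prime_other (S := S) p p
  haveI := Fact.mk hq
  have hXb : X ≠ ⊥ := fun e => by
    have h0 : S.syl q = ⊥ := le_bot_iff.1 (e ▸ hXle q hqp)
    have h1 := (syl_isSylIn (S := S) q).2
    rw [h0, Subgroup.card_bot] at h1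
    exact (Nat.one_lt_pow (hq.factorization_pos_of_dvd Nat.card_pos.ne' hqd).ne' hq.one_lt).ne h1
  -- a non-trivial normal subgroup of prime power order of `X`
  obtain ⟨t, ht, htne⟩ : ∃ t : ℕ, ∃ ht : t.Prime,
      (haveI := Fact.mk ht; pCoreOf t X ≠ ⊥) := by
    by_contra h
    push Not at h
    haveI : Nontrivial X := (Subgroup.nontrivial_iff_ne_bot X).2 hXb
    refine fitting_ne_bot hXs ?_
    rw [fitting_eq_iSup_pCore, iSup_eq_bot]
    intro t
    exact (Subgroup.map_eq_bot_iff_of_injective _ X.subtype_injective).1 (h t t.2)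
  haveI := Fact.mk ht
  set N := pCoreOf t X
  have hNi : S.Inv N := inv_core hX
  have htp : t ≠ p := by
    obtain ⟨j, hj⟩ := IsPGroup.iff_card.1 (Fusion.pCoreOf_isPGroup (p := t) X)
    refine hXπ t ht ?_
    have : j ≠ 0 := fun h => htne (Subgroup.card_eq_one.1 (by rw [hj, h, pow_zero]))
    exact (dvd_pow_self t this).trans (hj ▸ Subgroup.card_dvd_of_le (Fusion.pCoreOf_le X))
  obtain ⟨s, hs, hsd, hsp, hst⟩ := exists_prime_other (S := S) p t
  haveI := Fact.mk hs
  obtain ⟨Y, hY, hYπ, hYle⟩ := exists_complement (S := S) s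
  have hYK : Y ≠ S.K := fun e => hYπ s hs (e ▸ hsd) rfl
  have hNY : N ≤ Y := (core_le_syl hX).trans (hYle t (Ne.symm hst))
  -- `K = Y X`
  have hcard : (Y : Set Γ) * (X : Set Γ) = (S.K : Set Γ) := by
    refine Set.eq_of_subset_of_ncard_le ?_ ?_ (Set.toFinite _)
    · rintro _ ⟨y, hy, x, hx, rfl⟩
      exact S.K.mul_mem (hY.1 hy) (hX.1 hx)
    rw [← Nat.card_coe_set_eq, ← Nat.card_coe_set_eq]
    have h1 := card_mul_set_mul_card_inf Y X
    obtain ⟨d, hd⟩ : ∃ d, d = Nat.card (Y ⊓ X : Subgroup Γ) := ⟨_, rfl⟩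
    have hd0 : d ≠ 0 := hd ▸ Nat.card_pos.ne'
    rw [← hd] at h1
    have hYne : Nat.card Y ≠ 0 := Nat.card_pos.ne'
    have hXne : Nat.card X ≠ 0 := Nat.card_pos.ne'
    have hKne : Nat.card S.K ≠ 0 := Nat.card_pos.ne'
    have h2 : Nat.card S.K * d ∣ Nat.card Y * Nat.card X := by
      rw [← Nat.factorization_le_iff_dvd (mul_ne_zero hKne hd0) (mul_ne_zero hYne hXne),
        Nat.factorization_mul hKne hd0, Nat.factorization_mul hYne hXne]
      intro v
      by_cases hv : v.Prime
      swap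
      · simp [Nat.factorization_eq_zero_of_not_prime _ hv]
      haveI := Fact.mk hv
      have hfull : ∀ Z : Subgroup Γ, Z ≤ S.K → S.syl v ≤ Z →
          (Nat.card S.K).factorization v ≤ (Nat.card Z).factorization v := fun Z _ hZ =>
        (hv.pow_dvd_iff_le_factorization (Nat.card_pos (α := Z)).ne').1
          ((syl_isSylIn (S := S) v).2 ▸ Subgroup.card_dvd_of_le hZ)
      have hdY : d.factorization v ≤ (Nat.card Y).factorization v :=
        (Nat.factorization_le_iff_dvd hd0 hYne).2 (hd ▸ Subgroup.card_dvd_of_le inf_le_left) v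
      have hdX : d.factorization v ≤ (Nat.card X).factorization v :=
        (Nat.factorization_le_iff_dvd hd0 hXne).2 (hd ▸ Subgroup.card_dvd_of_le inf_le_right) v
      simp only [Finsupp.add_apply]
      by_cases hvs : v = s
      · subst hvs
        have := hfull X hX.1 (hXle v hsp)
        have h0 : (Nat.card Y).factorization v = 0 :=
          Nat.factorization_eq_zero_of_not_dvd fun h => hYπ v hv h rfl
        omega
      · have := hfull Y hY.1 (hYle v hvs)
        omega
    rw [← h1] at h2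
    haveI : Nonempty ((Y : Set Γ) * (X : Set Γ) : Set Γ) := ⟨⟨1 * 1, Set.mul_mem_mul Y.one_mem X.one_mem⟩⟩
    exact Nat.le_of_dvd Nat.card_pos (Nat.dvd_of_mul_dvd_mul_right (Nat.pos_of_ne_zero hd0) h2)
  -- the normal closure of `N`
  set W := ⨆ y ∈ Y, MulAut.conj y • N
  have hWY : W ≤ Y := iSup₂_le fun y hy => by
    intro z hz
    rw [mem_conj_smul] at hz
    have h := conj_mem_of_mem_normalizer (Subgroup.le_normalizer hy) (hNY hz)
    rwa [show y * (y⁻¹ * z * y) * y⁻¹ = z by group] at h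
  have hstep : ∀ y ∈ Y, ∀ x ∈ X, MulAut.conj (y * x) • N ≤ W := fun y hy x hx => by
    rw [← conj_smul_conj, conj_smul_of_mem_normalizer (Fusion.le_normalizer_pCoreOf X hx)]
    exact le_iSup₂_of_le y hy le_rfl
  have hWn : ∀ g, (∀ y ∈ Y, g * y ∈ S.K ∨ MulAut.conj (g * y) • N ≤ W) →
      g ∈ Subgroup.normalizer (W : Set Γ) := by
    intro g hg
    refine mem_normalizer_of_conj_smul (Subgroup.eq_of_le_of_card_ge ?_ (card_conj_smul _ _).ge)
    rw [conj_smul_eq_map, Subgroup.map_iSup]
    refine iSup_le fun y => ?_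
    rw [Subgroup.map_iSup]
    refine iSup_le fun hy => ?_
    rw [← conj_smul_eq_map, conj_smul_conj]
    rcases hg y hy with h | h
    · obtain ⟨y', hy', x, hx, e⟩ := hcard.ge h
      exact (show y' * x = g * y from e) ▸ hstep y' hy' x hx
    · exact h
  have hWi : S.A ≤ Subgroup.normalizer (W : Set Γ) := fun a ha => hWn a fun y hy => Or.inr (by
    rw [show a * y = (a * y * a⁻¹) * a by group, ← conj_smul_conj,
      conj_smul_of_mem_normalizer (hNi.2 ha)]
    exact le_iSup₂_of_le _ (conj_mem_of_mem_normalizer (hY.2 ha) hy) le_rfl)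
  have hWK : S.K ≤ Subgroup.normalizer (W : Set Γ) := fun g hg =>
    hWn g fun y hy => Or.inl (S.K.mul_mem hg (hY.1 hy))
  rcases S.char_simple W (hWY.trans hY.1) hWi hWK with h | h
  · refine htne (eq_bot_iff.2 ?_)
    rw [← h]
    exact le_iSup₂_of_le 1 (one_mem _) (conj_one_smul N).ge
  · exact hYK (le_antisymm hY.1 (h.ge.trans hWY))

end Ctx

theorem gen_elem {r : ℕ} (hr : r.Prime) (A H M : Subgroup Γ) (hA : Nat.card A = r ^ 2)
    (hAr : ∀ a ∈ A, a ^ r = 1) (hAc : IsMulCommutative A) (hAH : A ≤ Subgroup.normalizer (H : Set Γ))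
    (hco : (Nat.card A).Coprime (Nat.card H)) (h : ∀ a ∈ A, a ≠ 1 → piece a H ≤ M) : H ≤ M := by
  rw [← gen_eq A H hAc hAH hco]
  refine iSup₂_le fun B hB => ?_
  obtain ⟨hBA, a, ha, hsup⟩ := hB
  have hne : B ≠ ⊥ := fun e => by
    rw [e, bot_sup_eq] at hsup
    have h1 := Nat.le_of_dvd hr.pos (orderOf_dvd_of_pow_eq_one (hAr a ha))
    rw [← Nat.card_zpowers, hsup, hA, pow_two] at h1
    have := Nat.lt_mul_self_iff.2 hr.one_lt
    omega
  obtain ⟨b, hb, hb1⟩ := B.bot_or_exists_ne_one.resolve_left hne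
  exact (inf_le_inf_left H (Subgroup.centralizer_le (by simpa using hb))).trans (h b (hBA hb) hb1)

/-- The induction. -/
theorem solvable_aux : ∀ (n : ℕ) {Γ : Type u} [Group Γ] [Finite Γ] (K A : Subgroup Γ) (r : ℕ),
    Nat.card K = n → r.Prime → Nat.card A = r ^ 2 → (∀ a ∈ A, a ^ r = 1) → IsMulCommutative A →
    A ≤ Subgroup.normalizer (K : Set Γ) → ¬ r ∣ Nat.card K →
    (∀ a ∈ A, a ≠ 1 → ∀ x ∈ K, ∀ y ∈ K, Commute x a → Commute y a → Commute x y) →
    Group.IsSolvable K := by
  intro n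
  induction n using Nat.strong_induction_on with
  | _ n ih =>
  intro Γ _ _ K A r hn hr hA hAr hAc hAK hrK hab
  subst hn
  have hcoK : (Nat.card A).Coprime (Nat.card K) := by
    rw [hA]; exact (hr.coprime_iff_not_dvd.2 hrK).pow_left 2
  have hAs : Group.IsSolvable A := Group.isSolvable_of_comm fun a b => hAc.is_comm.comm a b
  have sub : ∀ H ≤ K, A ≤ Subgroup.normalizer (H : Set Γ) → H ≠ K → Group.IsSolvable H :=
    fun H hH hAH hne => ih _ (card_lt_of_lt (lt_of_le_of_ne hH hne)) H A r rfl hr hA hAr hAc hAH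
      (fun h => hrK (h.trans (Subgroup.card_dvd_of_le hH)))
      fun a ha ha1 x hx y hy => hab a ha ha1 x (hH hx) y (hH hy)
  have quot : ∀ N ≤ K, A ≤ Subgroup.normalizer (N : Set Γ) → K ≤ Subgroup.normalizer (N : Set Γ) →
      N ≠ ⊥ → Group.IsSolvable N → Group.IsSolvable K := by
    intro N hNK hAN hKN hNb hNs
    obtain ⟨L, hL⟩ : ∃ L, L = Subgroup.normalizer (N : Set Γ) := ⟨_, rfl⟩
    have hKL : K ≤ L := hL ▸ hKN
    have hAL : A ≤ L := hL ▸ hAN
    have hNL : N ≤ L := hNK.trans hKL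
    have hNn : (N.subgroupOf L).Normal := Subgroup.normal_subgroupOf_of_le_normalizer hL.le
    obtain ⟨f, hf⟩ : ∃ f : L →* L ⧸ N.subgroupOf L, f = QuotientGroup.mk' (N.subgroupOf L) := ⟨_, rfl⟩
    have hker : ∀ z : L, f z = 1 ↔ (z : Γ) ∈ N := fun z => by
      rw [hf]; exact (QuotientGroup.eq_one_iff z).trans Subgroup.mem_subgroupOf
    have hAN' : N.subgroupOf L ⊓ A.subgroupOf L = ⊥ := coprime_inf (by
      rw [card_subgroupOf hNL, card_subgroupOf hAL]
      exact (hcoK.coprime_dvd_right (Subgroup.card_dvd_of_le hNK)).symm)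
    have hcA : Nat.card ((A.subgroupOf L).map f) = r ^ 2 := by
      have h := card_map_mk'_mul_card_inf (N.subgroupOf L) (A.subgroupOf L)
      rw [hAN', Subgroup.card_bot, mul_one, card_subgroupOf hAL, hA, ← hf] at h
      exact h
    have hsol : Group.IsSolvable ((K.subgroupOf L).map f) := by
      have hlt : Nat.card ((K.subgroupOf L).map f) < Nat.card K := by
        have h := card_map_mk'_mul_card_inf (N.subgroupOf L) (K.subgroupOf L)
        rw [inf_eq_left.2 (Subgroup.subgroupOf_mono L hNK), card_subgroupOf hNL, card_subgroupOf hKL,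
          ← hf] at h
        rw [← h]
        exact lt_mul_of_one_lt_right Nat.card_pos (Subgroup.one_lt_card_iff_ne_bot _ |>.2 hNb)
      have hnorm : (A.subgroupOf L) ≤ Subgroup.normalizer ((K.subgroupOf L : Subgroup L) : Set L) :=
        fun a ha => mem_normalizer_subgroupOf (hAK ha)
      refine ih _ hlt ((K.subgroupOf L).map f) ((A.subgroupOf L).map f) r rfl hr hcA ?_ ?_ ?_ ?_ ?_
      · rintro _ ⟨a, ha, rfl⟩
        rw [← map_pow, show a ^ r = 1 from Subtype.ext (hAr a ha), map_one]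
      · refine ⟨⟨?_⟩⟩
        rintro ⟨_, a, ha, rfl⟩ ⟨_, b, hb, rfl⟩
        refine Subtype.ext ?_
        show f a * f b = f b * f a
        rw [← map_mul, ← map_mul, show a * b = b * a from
          Subtype.ext (show (a : Γ) * b = b * a from
            congrArg Subtype.val (hAc.is_comm.comm ⟨a.1, ha⟩ ⟨b.1, hb⟩))]
      · rintro _ ⟨a, ha, rfl⟩
        exact mem_normalizer_of_conj_smul (by
          rw [← map_conj_smul, conj_smul_of_mem_normalizer (hnorm ha)])
      · exact fun h => hrK (h.trans ((Subgroup.card_map_dvd _ f).trans (card_subgroupOf hKL).dvd))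
      · rintro _ ⟨a, ha, rfl⟩ hne x hx y hy hxa hya
        have hle : Subgroup.zpowers a ≤ A.subgroupOf L := Subgroup.zpowers_le.2 ha
        have hco : (Nat.card (Subgroup.zpowers a)).Coprime (Nat.card (K.subgroupOf L)) := by
          rw [card_subgroupOf hKL]
          exact hcoK.coprime_dvd_left (card_subgroupOf hAL ▸ Subgroup.card_dvd_of_le hle)
        have lift : ∀ z ∈ (K.subgroupOf L).map f, Commute z (f a) →
            ∃ c : L, (c : Γ) ∈ K ∧ Commute (c : Γ) a ∧ f c = z := by
          intro z hz hza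
          have hmem : z ∈ (K.subgroupOf L).map f ⊓
              Subgroup.centralizer (((Subgroup.zpowers a).map f : Subgroup (L ⧸ N.subgroupOf L)) : Set _) := by
            refine ⟨hz, Subgroup.mem_centralizer_iff.2 ?_⟩
            rintro _ ⟨b, hb, rfl⟩
            obtain ⟨k, rfl⟩ := Subgroup.mem_zpowers_iff.1 hb
            rw [map_zpow]
            exact (hza.zpow_right k).eq.symm
          obtain ⟨c, hc, rfl⟩ := FixedGen.map_fixed f (hle.trans hnorm) hco
            (Or.inl (isSolvable_of_le hle (isSolvable_subgroupOf hAL hAs))) hmem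
          exact ⟨c, hc.1, congrArg Subtype.val (fixed_eq hc (Subgroup.mem_zpowers a)).eq, rfl⟩
        obtain ⟨c, hcK, hca, rfl⟩ := lift x hx hxa
        obtain ⟨d, hdK, hda, rfl⟩ := lift y hy hya
        have ha1 : (a : Γ) ≠ 1 := fun e => hne (by rw [show a = 1 from Subtype.ext e, map_one])
        show f c * f d = f d * f c
        rw [← map_mul, ← map_mul,
          show c * d = d * c from Subtype.ext (hab a ha ha1 c hcK d hdK hca hda).eq]
    let g : K →* (K.subgroupOf L).map f :=
      (f.comp (Subgroup.inclusion hKL)).codRestrict _ fun k =>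
        Subgroup.mem_map_of_mem f (show Subgroup.inclusion hKL k ∈ K.subgroupOf L from k.2)
    refine Group.isSolvable_of_ker_le_range (Subgroup.inclusion hNK) g fun k hk => ?_
    exact ⟨⟨k, (hker _).1 (congrArg Subtype.val hk)⟩, rfl⟩
  by_cases hC : K ⊓ Subgroup.centralizer (A : Set Γ) = ⊥
  · by_contra hK
    exact Ctx.contradiction
      { r := r, K := K, A := A, hr := hr, cardA := hA, powA := hAr, commA := hAc, normK := hAK,
        cop := hrK, abel := hab,
        fix := fun x hx h => Subgroup.mem_bot.1 (hC ▸ Subgroup.mem_inf.2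
          ⟨hx, Subgroup.mem_centralizer_iff.2 fun a ha => (h a ha).eq.symm⟩),
        solv := sub,
        char_simple := fun N hN hAN hKN => by
          by_contra h
          push Not at h
          exact hK (quot N hN hAN hKN h.1 (sub N hN hAN h.2)),
        not_solv := hK }
  · -- the common fixed points are central
    have hcentral : K ≤ Subgroup.centralizer ((K ⊓ Subgroup.centralizer (A : Set Γ) : Subgroup Γ) : Set Γ) :=
      gen_elem hr A K _ hA hAr hAc hAK hcoK fun a ha ha1 y hy =>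
        Subgroup.mem_centralizer_iff.2 fun x hx =>
          (hab a ha ha1 x hx.1 y (mem_piece.1 hy).1 (fixed_eq hx ha) (mem_piece.1 hy).2).eq
    refine quot _ inf_le_left (fun a ha => mem_normalizer_inf (hAK ha)
      (FixedGen.centralizer_norm (Subgroup.le_normalizer ha))) (hcentral.trans (centralizer_le_normalizer' _))
      hC (Group.isSolvable_of_comm fun x y => Subtype.ext ?_)
    exact Subgroup.mem_centralizer_iff.1 (hcentral y.2.1) x x.2

end Cfsg.Agent.Solv.TwoRankAbelian
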