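import Cfsg.Agent.Lib.Solv.TwoRankAbelian.Cores
import Cfsg.Agent.Lib.Char.Burnside
import Cfsg.Agent.Lib.Fusion.AB

/-!
Maximal invariant `{p, s}`-subgroups with two non-trivial cores contain both Sylow subgroups.
-/

set_option autoImplicit false
set_option linter.unusedSectionVars false

open scoped Pointwise
open Cfsg

namespace Cfsg.Agent.Solv.TwoRankAbelian

universe u

variable {Γ : Type u} [Group Γ]

/-- The centre of a subgroup, inside the ambient group. -/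
def cen (H : Subgroup Γ) : Subgroup Γ := H ⊓ Subgroup.centralizer (H : Set Γ)

theorem cen_le (H : Subgroup Γ) : cen H ≤ H := inf_le_left

theorem cen_comm {H : Subgroup Γ} {z x : Γ} (hz : z ∈ cen H) (hx : x ∈ H) : Commute z x :=
  comm_of_le_centralizer inf_le_right hz hx

variable [Finite Γ]

theorem cen_ne_bot {p : ℕ} [Fact p.Prime] {H : Subgroup Γ} (hH : IsPGroup p H) (hne : H ≠ ⊥) :
    cen H ≠ ⊥ := by
  haveI : Nontrivial H := (Subgroup.nontrivial_iff_ne_bot _).2 hne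
  haveI : Nontrivial (Subgroup.center H) := hH.center_nontrivial
  obtain ⟨⟨⟨z, hzH⟩, hz⟩, hz1⟩ := exists_ne (1 : Subgroup.center H)
  intro h0
  have hzm : z ∈ cen H := Subgroup.mem_inf.2 ⟨hzH, Subgroup.mem_centralizer_iff.2 fun y hy =>
    congrArg Subtype.val (Subgroup.mem_center_iff.1 hz ⟨y, hy⟩)⟩
  rw [h0, Subgroup.mem_bot] at hzm
  exact hz1 (Subtype.ext (Subtype.ext hzm))

theorem mem_normalizer_cen {H : Subgroup Γ} {g : Γ} (hg : g ∈ Subgroup.normalizer (H : Set Γ)) :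
    g ∈ Subgroup.normalizer (cen H : Set Γ) :=
  mem_normalizer_inf hg (FixedGen.centralizer_norm hg)

/-- Thompson's `A × B` lemma, subgroup form. -/
theorem centralizes_AB {p : ℕ} [Fact p.Prime] {Q T W : Subgroup Γ} (hQ : IsPGroup p Q)
    (hT : IsPGroup p T) (hTQ : T ≤ Subgroup.normalizer (Q : Set Γ))
    (hWQ : W ≤ Subgroup.normalizer (Q : Set Γ)) (hWT : W ≤ Subgroup.centralizer (T : Set Γ))
    (hW : (Nat.card W).Coprime p)
    (hfix : Q ⊓ Subgroup.centralizer (T : Set Γ) ≤ Subgroup.centralizer (W : Set Γ)) :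
    W ≤ Subgroup.centralizer (Q : Set Γ) := fun x hx =>
  Fusion.mem_centralizer_of_AB hQ hT hTQ (hWQ hx) (fun t ht => (comm_of_le_centralizer hWT hx ht).eq)
    (hW.coprime_dvd_left (Subgroup.orderOf_dvd_natCard W hx)) fun q hq hqT =>
      (comm_of_le_centralizer hfix (Subgroup.mem_inf.2 ⟨hq,
        Subgroup.mem_centralizer_iff.2 fun t ht => (hqT t ht).symm⟩) hx).eq.symm

namespace Ctx

variable {S : Ctx Γ}

theorem Inv.cen {H : Subgroup Γ} (hH : S.Inv H) : S.Inv (cen H) :=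
  ⟨(cen_le H).trans hH.1, fun _ ha => mem_normalizer_cen (hH.2 ha)⟩

variable (S) in
/-- No invariant `{p, s}`-subgroup contains both invariant Sylow subgroups. -/
def Bad (p s : ℕ) [Fact p.Prime] [Fact s.Prime] : Prop :=
  ∀ U, S.Inv U → IsPi {p, s} U → S.syl p ≤ U → S.syl s ≤ U → False

variable (S) in
/-- A maximal invariant `{p, s}`-subgroup. -/
structure IsMax (p s : ℕ) (M : Subgroup Γ) : Prop where
  inv : S.Inv M
  pi : IsPi {p, s} M
  max : ∀ U, S.Inv U → IsPi {p, s} U → M ≤ U → U ≤ M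

theorem Bad.symm {p s : ℕ} [Fact p.Prime] [Fact s.Prime] (h : S.Bad p s) : S.Bad s p :=
  fun U hU hπ h1 h2 => h U hU (hπ.mono (Set.pair_comm s p).subset) h2 h1

theorem IsMax.symm {p s : ℕ} {M : Subgroup Γ} (h : S.IsMax p s M) : S.IsMax s p M :=
  ⟨h.inv, h.pi.mono (Set.pair_comm p s).subset,
    fun U hU hπ hMU => h.max U hU (hπ.mono (Set.pair_comm s p).subset) hMU⟩

theorem pi_ne_K {p s : ℕ} [hp : Fact p.Prime] [hs : Fact s.Prime] {U : Subgroup Γ}
    (h : IsPi {p, s} U) : U ≠ S.K :=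
  ne_K_of_solvable (Char.isSolvable_of_two_primes hp.out hs.out _ rfl fun q hq hd => by
    simpa using h q hq hd)

theorem exists_max {p s : ℕ} {U : Subgroup Γ} (hU : S.Inv U) (hπ : IsPi {p, s} U) :
    ∃ M, S.IsMax p s M ∧ U ≤ M := by
  obtain ⟨M, hUM, hM⟩ := Finite.exists_le_maximal
    (p := fun V : Subgroup Γ => S.Inv V ∧ IsPi {p, s} V) (a := U) ⟨hU, hπ⟩
  exact ⟨M, ⟨hM.1.1, hM.1.2, fun V hV hVπ h => hM.2 ⟨hV, hVπ⟩ h⟩, hUM⟩

theorem IsMax.eq {p s : ℕ} {M H : Subgroup Γ} (hM : S.IsMax p s M) (hH : S.IsMax p s H) (h : M ≤ H) :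
    H = M := le_antisymm (hM.max H hH.inv hH.pi h) h

/-- Subgroups normalising a non-trivial normal invariant subgroup of `M` lie in `M`. -/
theorem IsMax.le_of_normalizes {p s : ℕ} [Fact p.Prime] [Fact s.Prime] {M X U : Subgroup Γ}
    (hM : S.IsMax p s M) (hX : S.Inv X) (hXb : X ≠ ⊥) (hXM : X ≤ M)
    (hMX : M ≤ Subgroup.normalizer (X : Set Γ)) (hU : S.Inv U) (hπ : IsPi {p, s} U)
    (hUX : U ≤ Subgroup.normalizer (X : Set Γ)) : U ≤ M := by
  obtain ⟨T, hT, -, hTπ, hmax⟩ := hall (S.inv_K.inf_norm hX.2)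
    (norm_ne_K hX hXb (pi_ne_K (S := S) (p := p) (s := s) (hM.pi.to_le hXM))) {p, s}
  exact (hmax U hU (le_inf hU.1 hUX) hπ).trans
    (hM.max T hT hTπ (hmax M hM.inv (le_inf hM.inv.1 hMX) hM.pi))

variable {p s : ℕ} [hp : Fact p.Prime] [hs : Fact s.Prime]

theorem IsMax.core_norm {M U : Subgroup Γ} (hM : S.IsMax p s M) (h0 : pCoreOf p M ≠ ⊥)
    (hU : S.Inv U) (hπ : IsPi {p, s} U) (hUX : U ≤ Subgroup.normalizer (pCoreOf p M : Set Γ)) : U ≤ M :=
  hM.le_of_normalizes (inv_core hM.inv) h0 (Fusion.pCoreOf_le M) (Fusion.le_normalizer_pCoreOf M)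
    hU hπ hUX

theorem IsMax.cen_core_norm {M U : Subgroup Γ} (hM : S.IsMax p s M) (h0 : pCoreOf p M ≠ ⊥)
    (hU : S.Inv U) (hπ : IsPi {p, s} U)
    (hUX : U ≤ Subgroup.normalizer (cen (pCoreOf p M) : Set Γ)) : U ≤ M :=
  hM.le_of_normalizes (inv_core hM.inv).cen (cen_ne_bot (Fusion.pCoreOf_isPGroup M) h0)
    ((cen_le _).trans (Fusion.pCoreOf_le M))
    (fun _ hx => mem_normalizer_cen (Fusion.le_normalizer_pCoreOf M hx)) hU hπ hUX

/-- `W` lies in `F_p(M)` and its centraliser is controlled by `M`. -/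
theorem cores_le (hps : p ≠ s) {M H W : Subgroup Γ} (hM : S.IsMax p s M) (hFs : pCoreOf s M ≠ ⊥)
    (hW : S.Inv W) (hWne : W ≠ ⊥) (hWF : W ≤ pCoreOf p M)
    (hWc : ∀ U, S.Inv U → IsPi {p, s} U → U ≤ Subgroup.centralizer (W : Set Γ) → U ≤ M)
    (hH : S.IsMax p s H) (hZ : cen (pCoreOf s M) ≤ H) (hWH : W ≤ H) :
    pCoreOf p H ≤ M ∧ pCoreOf s H ≤ M ∧ pCoreOf p H ≠ ⊥ ∧ pCoreOf s H ≠ ⊥ := by
  set Z := cen (pCoreOf s M)
  have hZi : S.Inv Z := (inv_core hM.inv).cen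
  have hZs : IsPGroup s Z := (Fusion.pCoreOf_isPGroup M).to_le (cen_le _)
  have hWp : IsPGroup p W := (Fusion.pCoreOf_isPGroup M).to_le hWF
  have hWM : W ≤ M := hWF.trans (Fusion.pCoreOf_le M)
  have hZM : Z ≤ M := (cen_le _).trans (Fusion.pCoreOf_le M)
  have hWZ : W ≤ Subgroup.centralizer (Z : Set Γ) := le_centralizer_of fun x hx y hy =>
    comm_of_le_centralizer (core_comm hps M) (hWF hx) (cen_le _ hy)
  set Op := pCoreOf p H
  set Os := pCoreOf s H
  have hOp : S.Inv Op := inv_core hH.inv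
  have hOs : S.Inv Os := inv_core hH.inv
  -- `W` centralises `O_s(H)`
  have hs1 : Os ⊓ M ≤ Subgroup.centralizer (W : Set Γ) := le_centralizer_of fun x hx w hw =>
    commutatorElement_eq_one_iff_mul_comm.1 (Subgroup.mem_bot.1
      (pgroup_inf hps (Fusion.pCoreOf_isPGroup (p := p) M) (Fusion.pCoreOf_isPGroup H) ▸
        Subgroup.mem_inf.2 ⟨mul_mem (conj_mem_of_mem_normalizer (Fusion.le_normalizer_pCoreOf M hx.2) (hWF hw))
            (inv_mem (hWF hw)),
          comm_mem_of_mem_normalizer (Fusion.le_normalizer_pCoreOf H (hWH hw)) hx.1⟩))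
  have hsZ : Os ⊓ Subgroup.centralizer (Z : Set Γ) ≤ M :=
    hM.symm.cen_core_norm hFs (hOs.inf_cent hZi.2)
      ((hH.symm.pi.to_le (Fusion.pCoreOf_le H)).to_le inf_le_left)
      (inf_le_right.trans (centralizer_le_normalizer' _))
  have hWOs : W ≤ Subgroup.centralizer (Os : Set Γ) :=
    centralizes_AB (p := s) (Fusion.pCoreOf_isPGroup H) hZs (hZ.trans (Fusion.le_normalizer_pCoreOf H))
      (hWH.trans (Fusion.le_normalizer_pCoreOf H)) hWZ (pgroup_coprime hps hWp)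
      ((le_inf inf_le_left hsZ).trans hs1)
  have hOsM : Os ≤ M := hWc Os hOs (hH.pi.to_le (Fusion.pCoreOf_le H))
    (Subgroup.le_centralizer_iff.1 hWOs)
  -- `Z` centralises `O_p(H)`
  have hp1 : Op ⊓ M ≤ Subgroup.centralizer (Z : Set Γ) := le_centralizer_of fun x hx z hz =>
    commutatorElement_eq_one_iff_mul_comm.1 (Subgroup.mem_bot.1
      (pgroup_inf (Ne.symm hps) (Fusion.pCoreOf_isPGroup (p := s) M) (Fusion.pCoreOf_isPGroup H) ▸
        Subgroup.mem_inf.2 ⟨mul_mem (conj_mem_of_mem_normalizer (Fusion.le_normalizer_pCoreOf M hx.2) (cen_le _ hz))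
            (inv_mem (cen_le _ hz)),
          comm_mem_of_mem_normalizer (Fusion.le_normalizer_pCoreOf H (hZ hz)) hx.1⟩))
  have hpW : Op ⊓ Subgroup.centralizer (W : Set Γ) ≤ M :=
    hWc _ (hOp.inf_cent hW.2) ((hH.pi.to_le (Fusion.pCoreOf_le H)).to_le inf_le_left) inf_le_right
  have hZOp : Z ≤ Subgroup.centralizer (Op : Set Γ) :=
    centralizes_AB (p := p) (Fusion.pCoreOf_isPGroup H) hWp (hWH.trans (Fusion.le_normalizer_pCoreOf H))
      (hZ.trans (Fusion.le_normalizer_pCoreOf H)) (Subgroup.le_centralizer_iff.1 hWZ)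
      (pgroup_coprime (Ne.symm hps) hZs) ((le_inf inf_le_left hpW).trans hp1)
  have hOpM : Op ≤ M := hM.symm.cen_core_norm hFs hOp (hH.symm.pi.to_le (Fusion.pCoreOf_le H))
    ((Subgroup.le_centralizer_iff.1 hZOp).trans (centralizer_le_normalizer' _))
  refine ⟨hOpM, hOsM, fun h0 => ?_, fun h0 => ?_⟩
  · exact hWne (eq_bot_iff.2 ((le_core_of_centralizes hH.inv (pi_ne_K hH.pi) hH.pi hWH
      (le_syl hW hWp) hWOs).trans h0.le))
  · exact cen_ne_bot (Fusion.pCoreOf_isPGroup M) hFs (eq_bot_iff.2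
      ((le_core_of_centralizes hH.inv (pi_ne_K hH.symm.pi) hH.symm.pi hZ
        (le_syl hZi hZs) hZOp).trans h0.le))

theorem cen_core_cent {M U : Subgroup Γ} (hM : S.IsMax p s M) (h0 : pCoreOf p M ≠ ⊥) (hU : S.Inv U)
    (hπ : IsPi {p, s} U) (hUX : U ≤ Subgroup.centralizer (cen (pCoreOf p M) : Set Γ)) : U ≤ M :=
  hM.cen_core_norm h0 hU hπ (hUX.trans (centralizer_le_normalizer' _))

/-- A maximal `H` containing both centres of the cores of `M` is `M`. -/
theorem eq_of_centres (hps : p ≠ s) {M H : Subgroup Γ} (hM : S.IsMax p s M)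
    (hFp : pCoreOf p M ≠ ⊥) (hFs : pCoreOf s M ≠ ⊥) (hH : S.IsMax p s H)
    (hZp : cen (pCoreOf p M) ≤ H) (hZs : cen (pCoreOf s M) ≤ H) : H = M := by
  obtain ⟨hpM, hsM, hp0, hs0⟩ := cores_le hps hM hFs (inv_core hM.inv).cen
    (cen_ne_bot (Fusion.pCoreOf_isPGroup M) hFp) (cen_le _)
    (fun U hU hπ hUW => cen_core_cent hM hFp hU hπ hUW) hH hZs hZp
  obtain ⟨hpH, hsH, -, -⟩ := cores_le hps hH hs0 (inv_core hH.inv).cen
    (cen_ne_bot (Fusion.pCoreOf_isPGroup H) hp0) (cen_le _)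
    (fun U hU hπ hUW => cen_core_cent hH hp0 hU hπ hUW) hM ((cen_le _).trans hsM) ((cen_le _).trans hpM)
  -- the cores of `H` and of `M` agree
  have key : ∀ {M H : Subgroup Γ}, S.IsMax p s M → pCoreOf p H ≤ M → pCoreOf s M ≤ H → S.Inv H →
      pCoreOf p H ≤ pCoreOf p M := fun {M H} hM h1 h2 hH =>
    le_core_of_centralizes hM.inv (pi_ne_K hM.pi) hM.pi h1 (core_le_syl hH)
      (le_centralizer_of fun _ hx _ hy => comm_of_normalize
        (h1.trans (Fusion.le_normalizer_pCoreOf M)) (h2.trans (Fusion.le_normalizer_pCoreOf H))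
        (pgroup_inf hps (Fusion.pCoreOf_isPGroup H) (Fusion.pCoreOf_isPGroup M)) hx hy)
  have he : pCoreOf p H = pCoreOf p M := le_antisymm (key hM hpM hsH hH.inv) (key hH hpH hsM hM.inv)
  exact hM.eq hH (hH.core_norm hp0 hM.inv hM.pi (he ▸ Fusion.le_normalizer_pCoreOf M))

/-- The centraliser of a non-trivial invariant subgroup of `F_p(M)` is controlled by `M`. -/
theorem cent_le (hps : p ≠ s) {M W U : Subgroup Γ} (hM : S.IsMax p s M)
    (hFp : pCoreOf p M ≠ ⊥) (hFs : pCoreOf s M ≠ ⊥) (hW : S.Inv W) (hWne : W ≠ ⊥)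
    (hWF : W ≤ pCoreOf p M) (hU : S.Inv U) (hπ : IsPi {p, s} U)
    (hUW : U ≤ Subgroup.centralizer (W : Set Γ)) : U ≤ M := by
  have hWM : W ≤ M := hWF.trans (Fusion.pCoreOf_le M)
  obtain ⟨T, hT, -, hTπ, hmax⟩ := hall (S.inv_K.inf_cent hW.2)
    (cent_ne_K hW hWne (pi_ne_K (hM.pi.to_le hWM))) {p, s}
  obtain ⟨H, hH, hTH⟩ := exists_max hT hTπ
  have hz : ∀ {q : ℕ} [Fact q.Prime], cen (pCoreOf q M) ≤ Subgroup.centralizer (W : Set Γ) →
      cen (pCoreOf q M) ≤ H := fun {q} _ h => (hmax _ (inv_core hM.inv).cen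
        (le_inf (inv_core hM.inv).cen.1 h)
        (hM.pi.to_le ((cen_le _).trans (Fusion.pCoreOf_le M)))).trans hTH
  have e := eq_of_centres hps hM hFp hFs hH
    (hz (le_centralizer_of fun _ hx _ hy => cen_comm hx (hWF hy)))
    (hz (le_centralizer_of fun _ hx _ hy =>
      comm_of_le_centralizer (core_comm (Ne.symm hps) M) (cen_le _ hx) (hWF hy)))
  exact e ▸ (hmax U hU (le_inf hU.1 hUW) hπ).trans hTH

theorem eq_of_sub (hps : p ≠ s) {M H W : Subgroup Γ} (hM : S.IsMax p s M)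
    (hFp : pCoreOf p M ≠ ⊥) (hFs : pCoreOf s M ≠ ⊥) (hW : S.Inv W) (hWne : W ≠ ⊥)
    (hWF : W ≤ pCoreOf p M) (hH : S.IsMax p s H) (hZ : cen (pCoreOf s M) ≤ H) (hWH : W ≤ H) :
    H = M := by
  obtain ⟨hpM, hsM, hp0, hs0⟩ := cores_le hps hM hFs hW hWne hWF
    (fun U hU hπ hUW => cent_le hps hM hFp hFs hW hWne hWF hU hπ hUW) hH hZ hWH
  exact (eq_of_centres hps hH hp0 hs0 hM ((cen_le _).trans hpM) ((cen_le _).trans hsM)).symm

/-- A maximal subgroup with two non-trivial cores contains the Sylow `s`-subgroup. -/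
theorem syl_le_of_mixed (hps : p ≠ s) {M : Subgroup Γ} (hM : S.IsMax p s M)
    (hFp : pCoreOf p M ≠ ⊥) (hFs : pCoreOf s M ≠ ⊥) : S.syl s ≤ M := by
  by_contra hSM
  set Fp := pCoreOf p M
  set Fs := pCoreOf s M
  set T := S.syl s
  have hTi : S.Inv T := syl_inv s
  have hTπ : IsPi {p, s} T := isPi_of_pgroup (syl_pgroup s) (Or.inr rfl)
  have hTb : T ≠ ⊥ := fun h => hSM (h.le.trans bot_le)
  have hFst : Fs ≤ T := core_le_syl hM.inv
  -- the centre of `T` lies in `M`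
  have hZT : cen T ≤ M := hM.symm.cen_core_norm hFs hTi.cen (hTπ.to_le (cen_le _) |>.mono
      (Set.pair_comm p s).subset)
    ((le_centralizer_of fun _ hx _ hy => cen_comm hx (hFst (cen_le _ hy))).trans
      (centralizer_le_normalizer' _))
  obtain ⟨j, hj, hj1, hY⟩ := exists_piece_ne_bot hTi.cen (cen_ne_bot (syl_pgroup s) hTb)
  set Y := piece j (cen T)
  have hYi : S.Inv Y := hTi.cen.piece hj
  have hYM : Y ≤ M := (piece_le _ _).trans hZT
  obtain ⟨L, hL, -, hLπ, hmax⟩ := hall (S.inv_K.inf_cent hYi.2)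
    (cent_ne_K hYi hY (pi_ne_K (hM.pi.to_le hYM))) {p, s}
  obtain ⟨H, hH, hLH⟩ := exists_max hL hLπ
  have hTH : T ≤ H := (hmax T hTi (le_inf hTi.1
    (le_centralizer_of fun _ hx _ hy => (cen_comm (piece_le _ _ hy) hx).symm)) hTπ).trans hLH
  have hHM : H ≠ M := fun e => hSM (e ▸ hTH)
  -- `Y` is fixed-point-free on `F_p`
  have hCY : Fp ⊓ Subgroup.centralizer (Y : Set Γ) = ⊥ := by
    by_contra hne
    exact hHM (eq_of_sub hps hM hFp hFs ((inv_core hM.inv).inf_cent hYi.2) hne inf_le_left hH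
      (((cen_le _).trans hFst).trans hTH)
      ((hmax _ ((inv_core hM.inv).inf_cent hYi.2) (inf_le_inf_right _ (inv_core hM.inv).1)
        (hM.pi.to_le (inf_le_left.trans (Fusion.pCoreOf_le M)))).trans hLH))
  have hFj : ∀ v ∈ Fp, Commute v j → v = 1 := fun v hv hvj => Subgroup.mem_bot.1 (hCY ▸
    Subgroup.mem_inf.2 ⟨hv, Subgroup.mem_centralizer_iff.2 fun y hy => ((S.abel j hj hj1 v
      ((inv_core hM.inv).1 hv) y (hYi.1 hy) hvj (mem_piece.1 hy).2).eq).symm⟩)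
  have hpi : ∀ {c : Γ}, c ∈ S.A → IsPi {p, s} (piece c T) := fun _ => hTπ.to_le (piece_le _ _)
  -- every other piece of `T` lies in `M`
  have hout : ∀ c ∈ S.A, c ∉ Subgroup.zpowers j → piece c T ≤ M := by
    intro c hc hcj
    have hW : piece c Fp ≠ ⊥ := by
      intro h0
      refine hFp ?_
      have hle : Y ≤ Subgroup.centralizer (Fp : Set Γ) :=
        centralizes_of_fixfree hYi (inv_core hM.inv) (Fusion.pCoreOf_isPGroup M)
          (pgroup_coprime (Ne.symm hps) ((syl_pgroup s).to_le ((piece_le _ _).trans (cen_le _))))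
          (hYM.trans (Fusion.le_normalizer_pCoreOf M)) hc
          (fun x hx hxc => fix2 hj hj1 hc hcj (hYi.1 hx) (mem_piece.1 hx).2 hxc)
          (fun v hv hvc x _ => by
            rw [show v = 1 from Subgroup.mem_bot.1 (h0 ▸ mem_piece.2 ⟨hv, hvc⟩)]
            exact Commute.one_right x)
      exact eq_bot_iff.2 fun v hv => hCY ▸ Subgroup.mem_inf.2
        ⟨hv, Subgroup.mem_centralizer_iff.2 fun y hy => (comm_of_le_centralizer hle hy hv).eq⟩
    exact cent_le hps hM hFp hFs ((inv_core hM.inv).piece hc) hW (piece_le _ _) (hTi.piece hc)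
      (hpi hc) (piece_comm hTi.1 (inv_core hM.inv).1 hc (out_ne_one hcj))
  have hjT : ¬ piece j T ≤ M := fun h => hSM (gen hTi fun c hc hc1 => by
    by_cases hcj : c ∈ Subgroup.zpowers j
    · intro x hx
      exact h (mem_piece.2 ⟨(mem_piece.1 hx).1,
        commute_zpowers (mem_piece.1 hx).2 (mem_zpowers_symm hj hc1 hcj)⟩)
    · exact hout c hc hcj)
  have hFsj : piece j Fs = ⊥ := by
    by_contra hne
    exact hjT (cent_le (Ne.symm hps) hM.symm hFs hFp ((inv_core hM.inv).piece hj) hne (piece_le _ _)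
      (hTi.piece hj) ((hpi hj).mono (Set.pair_comm p s).subset)
      (piece_comm hTi.1 (inv_core hM.inv).1 hj hj1))
  have hFsj' : ∀ v ∈ Fs, Commute v j → v = 1 := fun v hv hvj =>
    Subgroup.mem_bot.1 (hFsj ▸ mem_piece.2 ⟨hv, hvj⟩)
  -- `[R, j] = F_s` for `R = T ⊓ M`
  set R := T ⊓ M
  have hRi : S.Inv R := hTi.inf hM.inv
  have htw : ∀ y ∈ R, y⁻¹ * (j * y * j⁻¹) ∈ Fs := fun y hy => by
    have hyR : y⁻¹ * (j * y * j⁻¹) ∈ R :=
      mul_mem (inv_mem hy) (conj_mem_of_mem_normalizer (hRi.2 hj) hy)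
    refine mem_core_of_centralizes hM.inv (pi_ne_K hM.pi) hM.symm.pi hyR.2 hyR.1 fun v hv => ?_
    have := comm_centralizes hRi (inv_core hM.inv) (Fusion.pCoreOf_isPGroup (p := p) M)
      (pgroup_coprime (Ne.symm hps) ((syl_pgroup s).to_le inf_le_left))
      (inf_le_right.trans (Fusion.le_normalizer_pCoreOf M)) hj
      (fun v hv hvj x _ => by rw [hFj v hv hvj]; exact Commute.one_right x) y hy
    exact (Subgroup.mem_centralizer_iff.1 this v hv).symm
  set N := T ⊓ Subgroup.normalizer (R : Set Γ)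
  have hRT : R ≠ T := fun e => hSM (e.ge.trans inf_le_right)
  have hRN : R < N := Fusion.SylIn.normalizer_growth inf_le_left hRT (syl_pgroup s)
  have hNi : S.Inv N := hTi.inf_norm hRi.2
  refine hRN.not_ge (le_inf inf_le_left (gen hNi fun c hc hc1 => ?_))
  by_cases hcj : c ∈ Subgroup.zpowers j
  · refine le_trans (fun x hx => mem_piece.2 ⟨(mem_piece.1 hx).1,
        commute_zpowers (mem_piece.1 hx).2 (mem_zpowers_symm hj hc1 hcj)⟩ : piece c N ≤ piece j N) ?_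
    refine hM.symm.core_norm hFs (hNi.piece hj)
      (hTπ.to_le ((piece_le _ _).trans inf_le_left) |>.mono (Set.pair_comm p s).subset)
      (le_normalizer_of_conj fun x hx f hf => ?_)
    obtain ⟨⟨-, hxn⟩, hxj⟩ := mem_piece.1 hx
    obtain ⟨y, hy, rfl⟩ := exists_twist (inv_core hM.inv) hj hFsj' hf
    have hyR : y ∈ R := ⟨hFst hy, Fusion.pCoreOf_le M hy⟩
    convert htw (x * y * x⁻¹) (conj_mem_of_mem_normalizer hxn hyR) using 1
    have h1 : j * x * j⁻¹ = x := conj_eq_of_comm hxj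
    calc x * (y⁻¹ * (j * y * j⁻¹)) * x⁻¹
        = (x * y⁻¹ * x⁻¹) * ((j * x * j⁻¹) * (j * y * j⁻¹) * (j * x * j⁻¹)⁻¹) := by rw [h1]; group
      _ = _ := by group
  · exact (piece_mono c inf_le_left).trans (hout c hc hcj)

/-- There is no maximal subgroup with two non-trivial cores. -/
theorem not_mixed (hps : p ≠ s) (hbad : S.Bad p s) {M : Subgroup Γ} (hM : S.IsMax p s M) :
    pCoreOf p M = ⊥ ∨ pCoreOf s M = ⊥ := by
  by_contra h
  push Not at h
  exact hbad M hM.inv hM.pi (syl_le_of_mixed (Ne.symm hps) hM.symm h.2 h.1)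
    (syl_le_of_mixed hps hM h.1 h.2)

end Ctx

end Cfsg.Agent.Solv.TwoRankAbelian
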