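import Cfsg.Agent.Lib.Solv.TwoRankAbelian.Mixed
import Cfsg.Agent.Lib.Fusion.NPC
import Cfsg.Agent.Lib.Fusion.Sections
import Cfsg.Agent.Lib.Fusion.ZJApply
import Cfsg.Agent.S0117

/-!
Any two invariant Sylow subgroups generate a `{p, s}`-group.
-/

set_option autoImplicit false
set_option linter.unusedSectionVars false

open scoped Pointwise
open Cfsg

namespace Cfsg.Agent.Solv.TwoRankAbelian

universe u

variable {Γ : Type u} [Group Γ] [Finite Γ]

theorem mem_normalizer_map_char {K : Subgroup Γ} (D : Subgroup K) [hD : D.Characteristic] {g : Γ}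
    (hg : g ∈ Subgroup.normalizer (K : Set Γ)) :
    g ∈ Subgroup.normalizer (D.map K.subtype : Set Γ) := by
  refine mem_normalizer_of_conj_smul (Subgroup.eq_of_le_of_card_ge ?_ (card_conj_smul _ _).ge)
  rw [conj_smul_eq_map]
  rintro _ ⟨_, ⟨u, hu, rfl⟩, rfl⟩
  refine ⟨Subgroup.normalizerMonoidHom K ⟨g, hg⟩ u, ?_, rfl⟩
  rw [← Subgroup.characteristic_iff_map_eq.1 hD (Subgroup.normalizerMonoidHom K ⟨g, hg⟩)]
  exact ⟨u, hu, rfl⟩

namespace Ctx

variable {S : Ctx Γ}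

theorem dvd_of_syl {p : ℕ} [hp : Fact p.Prime] (h : S.syl p ≠ ⊥) : p ∣ Nat.card S.K := by
  by_contra hd
  refine h (Subgroup.card_eq_one.1 ?_)
  rw [(syl_isSylIn p).2, Nat.factorization_eq_zero_of_not_dvd hd, pow_zero]

theorem not_hnpc {p : ℕ} [hp : Fact p.Prime] (hne : S.syl p ≠ ⊥)
    (h : HasNormalPComplement p S.K) : False := by
  have hco := Fusion.hnpc_iff.1 h
  have hchar : (pResidual p S.K).Characteristic := Fusion.pResidual_characteristic
  rcases S.char_simple _ (Subgroup.map_subtype_le (pResidual p S.K))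
      (fun a ha => mem_normalizer_map_char _ (S.normK ha))
      (fun a ha => mem_normalizer_map_char _ (Subgroup.le_normalizer ha)) with h0 | h0
  · refine pgroup_ne_K (S := S) (p := p) (H := S.K) ?_ rfl
    rw [Subgroup.map_eq_bot_iff_of_injective _ S.K.subtype_injective] at h0
    intro x
    obtain ⟨k, m, hm, hkm⟩ := Nat.exists_eq_pow_mul_and_not_dvd (orderOf_pos x).ne' p hp.out.ne_one
    refine ⟨k, ?_⟩
    have h1 : x ^ p ^ k ∈ pResidual p S.K := Subgroup.subset_closure (by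
      show (orderOf (x ^ p ^ k)).Coprime p
      rw [orderOf_pow_of_dvd (pow_pos hp.out.pos k).ne' (hkm ▸ dvd_mul_right _ _), hkm,
        Nat.mul_div_cancel_left _ (pow_pos hp.out.pos k)]
      exact (hp.out.coprime_iff_not_dvd.2 hm).symm)
    rwa [h0, Subgroup.mem_bot] at h1
  · rw [← card_map_subtype, h0] at hco
    exact hp.out.coprime_iff_not_dvd.1 hco.symm (dvd_of_syl hne)

/-- No invariant Sylow subgroup is centralised by a single non-identity element of `A`. -/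
theorem not_single {p : ℕ} [hp : Fact p.Prime] (hne : S.syl p ≠ ⊥) {a : Γ} (ha : a ∈ S.A)
    (ha1 : a ≠ 1) : ¬ S.syl p ≤ piece a (S.syl p) := by
  intro hsingle
  have hPi := syl_inv (S := S) p
  have hfix : ∀ v ∈ S.syl p, Commute v a := fun v hv => (mem_piece.1 (hsingle hv)).2
  have hN : S.Inv (S.K ⊓ Subgroup.normalizer (S.syl p : Set Γ)) := S.inv_K.inf_norm hPi.2
  have hle : S.K ⊓ Subgroup.normalizer (S.syl p : Set Γ) ≤ Subgroup.centralizer (S.syl p : Set Γ) := by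
    refine le_of_syl hN fun t ht hd => ?_
    by_cases htp : t = p
    · subst htp
      exact inf_le_right.trans (le_centralizer_of fun x hx y hy =>
        S.abel a ha ha1 x (hPi.1 hx) y (hPi.1 hy) (hfix x hx) (hfix y hy))
    set R := S.K ⊓ Subgroup.normalizer (S.syl p : Set Γ) ⊓ S.syl t
    have hRi : S.Inv R := hN.inf (syl_inv t)
    set D := R ⊓ Subgroup.centralizer (S.syl p : Set Γ)
    have hDi : S.Inv D := hRi.inf_cent hPi.2
    intro x hx
    have hxn : x ∈ Subgroup.normalizer (S.syl p : Set Γ) := hx.1.2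
    have htw : x⁻¹ * (a * x * a⁻¹) ∈ D := by
      refine Subgroup.mem_inf.2
        ⟨mul_mem (inv_mem hx) (conj_mem_of_mem_normalizer (hRi.2 ha) hx), ?_⟩
      refine Subgroup.mem_centralizer_iff.2 fun v hv => ?_
      have h1 : x * v * x⁻¹ ∈ S.syl p := conj_mem_of_mem_normalizer hxn hv
      have h2 : (a * x * a⁻¹) * v * (a * x * a⁻¹)⁻¹ = x * v * x⁻¹ := by
        calc (a * x * a⁻¹) * v * (a * x * a⁻¹)⁻¹
            = a * (x * (a⁻¹ * v * a) * x⁻¹) * a⁻¹ := by group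
          _ = a * (x * v * x⁻¹) * a⁻¹ := by
              rw [show a⁻¹ * v * a = v by rw [mul_assoc, (hfix v hv).eq]; group]
          _ = _ := conj_eq_of_comm (hfix _ h1)
      calc v * (x⁻¹ * (a * x * a⁻¹)) = x⁻¹ * ((x * v * x⁻¹) * (a * x * a⁻¹)) := by group
        _ = x⁻¹ * ((a * x * a⁻¹) * v * (a * x * a⁻¹)⁻¹ * (a * x * a⁻¹)) := by rw [h2]
        _ = x⁻¹ * (a * x * a⁻¹) * v := by group
    obtain ⟨c, hc, hcd⟩ := exists_fixed_in_coset' (Subgroup.zpowers a) R D
      (Subgroup.zpowers_le.2 (hRi.2 ha))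
      ((S.cop_card hRi.1).coprime_dvd_left (Subgroup.card_dvd_of_le (Subgroup.zpowers_le.2 ha)))
      (Or.inl (isSolvable_of_le (Subgroup.zpowers_le.2 ha) S.solvA)) inf_le_left
      (Subgroup.zpowers_le.2 (hDi.2 ha)) hx (fun b hb => by
        obtain ⟨k, rfl⟩ := Subgroup.mem_zpowers_iff.1 hb
        exact zpow_coset_mem (hDi.2 ha) htw k)
    have hcC : c ∈ Subgroup.centralizer (S.syl p : Set Γ) := Subgroup.mem_centralizer_iff.2 fun v hv =>
      (S.abel a ha ha1 c (hRi.1 hc.1) v (hPi.1 hv) (fixed_eq hc (Subgroup.mem_zpowers a))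
        (hfix v hv)).eq.symm
    have := mul_mem hcC (inv_mem (Subgroup.mem_inf.1 hcd).2)
    rwa [show c * (x⁻¹ * c)⁻¹ = x by group] at this
  obtain ⟨Q, hQ⟩ := (syl_isSylIn (S := S) p).exists_sylow
  refine not_hnpc hne (Fusion.hnpc_of_normalizer_le_centralizer Q fun g hg => ?_)
  have hg' : (g : Γ) ∈ Subgroup.normalizer (S.syl p : Set Γ) :=
    mem_normalizer_of_conj_smul (by
      have := congrArg (Subgroup.map S.K.subtype) (conj_smul_of_mem_normalizer hg)
      rwa [map_conj_smul, hQ] at this)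
  refine Subgroup.mem_centralizer_iff.2 fun v hv => Subtype.ext ?_
  exact Subgroup.mem_centralizer_iff.1 (hle ⟨g.2, hg'⟩) (v : Γ) (hQ ▸ Subgroup.mem_map_of_mem _ hv)

theorem exists_second_piece {p : ℕ} [Fact p.Prime] (hne : S.syl p ≠ ⊥) :
    ∃ l ∈ S.A, ∃ m ∈ S.A, l ≠ 1 ∧ m ∉ Subgroup.zpowers l ∧
      piece l (S.syl p) ≠ ⊥ ∧ piece m (S.syl p) ≠ ⊥ := by
  obtain ⟨l, hl, hl1, hlne⟩ := exists_piece_ne_bot (syl_inv (S := S) p) hne
  by_contra h
  push Not at h
  refine not_single hne hl hl1 (gen (syl_inv p) fun c hc hc1 => ?_)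
  by_cases hcl : c ∈ Subgroup.zpowers l
  · exact fun x hx => mem_piece.2 ⟨(mem_piece.1 hx).1,
      commute_zpowers (mem_piece.1 hx).2 (mem_zpowers_symm hl hc1 hcl)⟩
  · rw [h l hl c hc hl1 hcl hlne]
    exact bot_le

section Pair

variable {p s : ℕ} [hp : Fact p.Prime] [hs : Fact s.Prime]

theorem bad_ne_bot (hbad : S.Bad p s) : S.syl p ≠ ⊥ := fun h =>
  hbad _ (syl_inv s) (isPi_of_pgroup (syl_pgroup s) (Or.inr rfl)) (h ▸ bot_le) le_rfl

theorem pi_syl_left {U : Subgroup Γ} (h : U ≤ S.syl p) : IsPi {p, s} U :=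
  (isPi_of_pgroup (syl_pgroup p) (Or.inl rfl)).to_le h

theorem pi_syl_right {U : Subgroup Γ} (h : U ≤ S.syl s) : IsPi {p, s} U :=
  (isPi_of_pgroup (syl_pgroup s) (Or.inr rfl)).to_le h

theorem core_eq_syl {M : Subgroup Γ} (hM : S.IsMax p s M)
    (hp0 : pCoreOf p M ≠ ⊥) (hs0 : pCoreOf s M = ⊥) : pCoreOf p M = S.syl p := by
  by_contra hne
  have hlt := Fusion.SylIn.normalizer_growth (core_le_syl hM.inv) hne (syl_pgroup p)
  refine hlt.not_ge ((le_inf ?_ inf_le_left).trans (syl_le_core hM.inv (pi_ne_K hM.pi) hM.pi hs0))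
  exact hM.core_norm hp0 ((syl_inv p).inf_norm (inv_core hM.inv).2) (pi_syl_left inf_le_left)
    inf_le_right

theorem max_cases (hps : p ≠ s) (hbad : S.Bad p s) {M : Subgroup Γ} (hM : S.IsMax p s M) :
    M = ⊥ ∨ (pCoreOf p M = S.syl p ∧ pCoreOf s M = ⊥) ∨ (pCoreOf s M = S.syl s ∧ pCoreOf p M = ⊥) := by
  by_cases hp0 : pCoreOf p M = ⊥
  · by_cases hs0 : pCoreOf s M = ⊥
    · exact Or.inl (eq_bot_of_cores hM.inv (pi_ne_K hM.pi) hM.pi hp0 hs0)
    · exact Or.inr (Or.inr ⟨core_eq_syl hM.symm hs0 hp0, hp0⟩)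
  · have hs0 := (not_mixed hps hbad hM).resolve_left hp0
    exact Or.inr (Or.inl ⟨core_eq_syl hM hp0 hs0, hs0⟩)

theorem dich (hps : p ≠ s) (hbad : S.Bad p s) {U : Subgroup Γ} (hU : S.Inv U) (hπ : IsPi {p, s} U) :
    U ≤ Subgroup.normalizer (S.syl p : Set Γ) ∨ U ≤ Subgroup.normalizer (S.syl s : Set Γ) := by
  obtain ⟨M, hM, hUM⟩ := exists_max hU hπ
  rcases max_cases hps hbad hM with h | ⟨h, -⟩ | ⟨h, -⟩
  · exact Or.inl ((hUM.trans h.le).trans bot_le)
  · exact Or.inl (hUM.trans (h ▸ Fusion.le_normalizer_pCoreOf M))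
  · exact Or.inr (hUM.trans (h ▸ Fusion.le_normalizer_pCoreOf M))

theorem faithful (hps : p ≠ s) (hbad : S.Bad p s) :
    S.syl s ⊓ Subgroup.centralizer (S.syl p : Set Γ) = ⊥ := by
  set D := S.syl s ⊓ Subgroup.centralizer (S.syl p : Set Γ)
  have hDi : S.Inv D := (syl_inv s).inf_cent (syl_inv p).2
  obtain ⟨M, hM, hUM⟩ := exists_max ((syl_inv p).sup hDi)
    ((pi_syl_left le_rfl).sup (pi_syl_right inf_le_left)
      (inf_le_right.trans (centralizer_le_normalizer' _)))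
  rcases max_cases hps hbad hM with h | ⟨h, h0⟩ | ⟨h, -⟩
  · exact absurd (eq_bot_iff.2 ((le_sup_left.trans hUM).trans h.le)) (bad_ne_bot hbad)
  · exact eq_bot_iff.2 ((le_core_of_centralizes hM.inv (pi_ne_K hM.symm.pi) hM.symm.pi
      (le_sup_right.trans hUM) inf_le_left (h.symm ▸ inf_le_right)).trans h0.le)
  · exact (hbad M hM.inv hM.pi (le_sup_left.trans hUM) (h ▸ Fusion.pCoreOf_le M)).elim

variable (S p s) in
/-- `N_S(P)`. -/
noncomputable def sn : Subgroup Γ := S.syl s ⊓ Subgroup.normalizer (S.syl p : Set Γ)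

theorem sn_inv : S.Inv (S.sn p s) := (syl_inv s).inf_norm (syl_inv p).2

theorem sn_comm (hps : p ≠ s) {x y : Γ} (hx : x ∈ S.sn p s) (hy : y ∈ S.sn s p) : Commute x y :=
  commutatorElement_eq_one_iff_mul_comm.1 (Subgroup.mem_bot.1
    (pgroup_inf hps (syl_pgroup (S := S) p) (syl_pgroup (S := S) s) ▸ Subgroup.mem_inf.2
      ⟨mul_mem (conj_mem_of_mem_normalizer hx.2 hy.1) (inv_mem hy.1),
        comm_mem_of_mem_normalizer hy.2 hx.1⟩))

theorem sn_ne_syl (hbad : S.Bad p s) :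
    ¬ S.syl s ≤ Subgroup.normalizer (S.syl p : Set Γ) := fun h =>
  hbad _ ((syl_inv p).sup (syl_inv s)) ((pi_syl_left le_rfl).sup (pi_syl_right le_rfl) h)
    le_sup_left le_sup_right

theorem piece_dich (hps : p ≠ s) (hbad : S.Bad p s) {a : Γ} (ha : a ∈ S.A) (ha1 : a ≠ 1) :
    piece a (S.syl p) ≤ S.sn s p ∨ piece a (S.syl s) ≤ S.sn p s := by
  rcases dich hps hbad (((syl_inv p).piece ha).sup ((syl_inv s).piece ha))
    ((pi_syl_left (piece_le _ _)).sup (pi_syl_right (piece_le _ _))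
      ((piece_comm (syl_inv s).1 (syl_inv p).1 ha ha1).trans (centralizer_le_normalizer' _))) with h | h
  · exact Or.inr (le_inf (piece_le _ _) (le_sup_right.trans h))
  · exact Or.inl (le_inf (piece_le _ _) (le_sup_left.trans h))

theorem sn_fixed (hps : p ≠ s) (hbad : S.Bad p s) {a : Γ} (ha : a ∈ S.A)
    (h : piece a (S.syl p) ≤ S.sn s p) {x : Γ} (hx : x ∈ S.sn p s) : Commute x a := by
  have h1 := comm_centralizes (sn_inv (S := S) (p := p) (s := s)) (syl_inv p) (syl_pgroup p)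
    (pgroup_coprime (Ne.symm hps) ((syl_pgroup s).to_le inf_le_left)) inf_le_right ha
    (fun v hv hva x hx => sn_comm hps hx (h (mem_piece.2 ⟨hv, hva⟩))) x hx
  have h2 : x⁻¹ * (a * x * a⁻¹) ∈ S.syl s :=
    mul_mem (inv_mem hx.1) (conj_mem_of_mem_normalizer ((syl_inv s).2 ha) hx.1)
  have h3 : x⁻¹ * (a * x * a⁻¹) = 1 :=
    Subgroup.mem_bot.1 (faithful hps hbad ▸ Subgroup.mem_inf.2 ⟨h2, h1⟩)
  exact comm_of_conj_eq (inv_mul_eq_one.1 h3).symm

theorem sn_two (hps : p ≠ s) (hbad : S.Bad p s) {a b : Γ} (ha : a ∈ S.A) (ha1 : a ≠ 1)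
    (hb : b ∈ S.A) (hab : b ∉ Subgroup.zpowers a) (h1 : piece a (S.syl p) ≤ S.sn s p)
    (h2 : piece b (S.syl p) ≤ S.sn s p) : S.sn p s = ⊥ :=
  eq_bot_iff.2 fun x hx => Subgroup.mem_bot.2
    (fix2 ha ha1 hb hab ((syl_inv s).1 hx.1) (sn_fixed hps hbad ha h1 hx) (sn_fixed hps hbad hb h2 hx))

theorem sn_bot_of_other (hps : p ≠ s) (hbad : S.Bad p s) (h0 : S.sn s p = ⊥) : S.sn p s = ⊥ := by
  by_contra hne
  by_cases hm : ∃ m ∈ S.A, m ≠ 1 ∧ piece m (S.syl p) = ⊥
  · obtain ⟨m, hm, hm1, hmb⟩ := hm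
    refine not_single (bad_ne_bot hbad.symm) hm hm1 (gen (syl_inv s) fun c hc hc1 => ?_)
    by_cases hcm : c ∈ Subgroup.zpowers m
    · exact fun x hx => mem_piece.2 ⟨(mem_piece.1 hx).1,
        commute_zpowers (mem_piece.1 hx).2 (mem_zpowers_symm hm hc1 hcm)⟩
    · rcases piece_dich hps hbad hc hc1 with h | h
      · exact absurd (sn_two hps hbad hm hm1 hc hcm (hmb ▸ bot_le) h) hne
      · intro x hx
        rw [fix2 hm hm1 hc hcm ((syl_inv s).1 (mem_piece.1 hx).1)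
          (sn_fixed hps hbad hm (hmb ▸ bot_le) (h hx)) (mem_piece.1 hx).2]
        exact one_mem _
  · push Not at hm
    refine sn_ne_syl hbad ((gen (syl_inv s) fun c hc hc1 => ?_).trans
      (inf_le_right : S.sn p s ≤ _))
    exact (piece_dich hps hbad hc hc1).resolve_left fun h => hm c hc hc1 (eq_bot_iff.2 (h0 ▸ h))

theorem sn_bot (hps : p ≠ s) (hbad : S.Bad p s) : S.sn p s = ⊥ := by
  by_contra hne
  by_cases h0 : S.sn s p = ⊥
  · exact hne (sn_bot_of_other hps hbad h0)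
  obtain ⟨a, ha, ha1, -⟩ := exists_piece_ne_bot (syl_inv (S := S) p) (bad_ne_bot hbad)
  obtain ⟨b, hb, hab⟩ := exists_out ha
  have hb1 := out_ne_one hab
  have hba : a ∉ Subgroup.zpowers b := fun h => hab (mem_zpowers_symm hb ha1 h)
  have habm : a * b ∈ S.A := mul_mem ha hb
  have hca : a * b ∉ Subgroup.zpowers a := fun h => hab
    ((Subgroup.mul_mem_cancel_left _ (Subgroup.mem_zpowers a)).1 h)
  have hcb : a * b ∉ Subgroup.zpowers b := fun h => hba
    ((Subgroup.mul_mem_cancel_right _ (Subgroup.mem_zpowers b)).1 h)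
  rcases piece_dich hps hbad ha ha1 with h1 | h1 <;> rcases piece_dich hps hbad hb hb1 with h2 | h2
  · exact hne (sn_two hps hbad ha ha1 hb hab h1 h2)
  · rcases piece_dich hps hbad habm (out_ne_one hca) with h3 | h3
    · exact hne (sn_two hps hbad ha ha1 habm hca h1 h3)
    · exact h0 (sn_two (Ne.symm hps) hbad.symm hb hb1 habm hcb h2 h3)
  · rcases piece_dich hps hbad habm (out_ne_one hca) with h3 | h3
    · exact hne (sn_two hps hbad hb hb1 habm hcb h2 h3)
    · exact h0 (sn_two (Ne.symm hps) hbad.symm ha ha1 habm hca h1 h3)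
  · exact h0 (sn_two (Ne.symm hps) hbad.symm ha ha1 hb hab h1 h2)

theorem piece_bot (hps : p ≠ s) (hbad : S.Bad p s) {a : Γ} (ha : a ∈ S.A) (ha1 : a ≠ 1) :
    piece a (S.syl p) = ⊥ ∨ piece a (S.syl s) = ⊥ := by
  rcases piece_dich hps hbad ha ha1 with h | h
  · exact Or.inl (eq_bot_iff.2 (sn_bot (Ne.symm hps) hbad.symm ▸ h))
  · exact Or.inr (eq_bot_iff.2 (sn_bot hps hbad ▸ h))

end Pair

/-- The case of a Sylow subgroup on which two elements generating `A` are fixed-point-free. -/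
theorem false_of_fixfree_two {p : ℕ} [hp : Fact p.Prime] (hp2 : p ≠ 2) (hne : S.syl p ≠ ⊥)
    {l m : Γ} (hl : l ∈ S.A) (hl1 : l ≠ 1) (hm : m ∈ S.A) (hlm : m ∉ Subgroup.zpowers l)
    (hPl : piece l (S.syl p) = ⊥) (hPm : piece m (S.syl p) = ⊥) : False := by
  have hcent : ∀ R X : Subgroup Γ, S.Inv R → S.Inv X → X ≤ S.syl p → (Nat.card R).Coprime p →
      R ≤ Subgroup.normalizer (X : Set Γ) → R ≤ Subgroup.centralizer (X : Set Γ) := by
    intro R X hR hX hXP hco hRX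
    set D := R ⊓ Subgroup.centralizer (X : Set Γ)
    have hD : S.Inv D := hR.inf_cent hX.2
    have hfree : ∀ a ∈ S.A, piece a (S.syl p) = ⊥ → ∀ x ∈ R, x⁻¹ * (a * x * a⁻¹) ∈ D :=
      fun a ha h x hx => Subgroup.mem_inf.2
        ⟨mul_mem (inv_mem hx) (conj_mem_of_mem_normalizer (hR.2 ha) hx),
          comm_centralizes hR hX ((syl_pgroup p).to_le hXP) hco hRX ha (fun v hv hva y _ => by
            rw [show v = 1 from Subgroup.mem_bot.1 (h ▸ mem_piece.2 ⟨hXP hv, hva⟩)]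
            exact Commute.one_right y) x hx⟩
    intro x hx
    let B : Subgroup Γ :=
      { carrier := {b | b ∈ Subgroup.normalizer (D : Set Γ) ∧ x⁻¹ * (b * x * b⁻¹) ∈ D}
        one_mem' := ⟨one_mem _, by simp⟩
        mul_mem' := fun {b c} hb hc => ⟨mul_mem hb.1 hc.1, by
          have h := mul_mem hb.2 (conj_mem_of_mem_normalizer hb.1 hc.2)
          rwa [show x⁻¹ * (b * x * b⁻¹) * (b * (x⁻¹ * (c * x * c⁻¹)) * b⁻¹) =
            x⁻¹ * (b * c * x * (b * c)⁻¹) by group] at h⟩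
        inv_mem' := fun {b} hb => ⟨inv_mem hb.1, by
          have h := conj_mem_of_mem_normalizer (inv_mem hb.1) (inv_mem hb.2)
          rwa [show b⁻¹ * (x⁻¹ * (b * x * b⁻¹))⁻¹ * b⁻¹⁻¹ = x⁻¹ * (b⁻¹ * x * b⁻¹⁻¹) by group] at h⟩ }
    have hAB : S.A ≤ B := by
      rw [sup_zpowers hl hl1 hm hlm, sup_le_iff, Subgroup.zpowers_le, Subgroup.zpowers_le]
      exact ⟨⟨hD.2 hl, hfree l hl hPl x hx⟩, ⟨hD.2 hm, hfree m hm hPm x hx⟩⟩
    obtain ⟨c, hc, hcd⟩ := exists_fixed_in_coset' S.A R D hR.2 (S.cop_card hR.1) (Or.inl S.solvA)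
      inf_le_left hD.2 hx (fun b hb => (hAB hb).2)
    rw [S.fix c (hR.1 hc.1) fun b hb => fixed_eq hc hb, mul_one] at hcd
    simpa using inv_mem (Subgroup.mem_inf.1 hcd).2
  -- the normaliser of `Z(J(P))`
  set P := S.syl p
  have hPi : S.Inv P := syl_inv p
  set Z := centerThompsonOf p P
  have hnorm : Subgroup.normalizer (P : Set Γ) ≤ Subgroup.normalizer (Z : Set Γ) := by
    show _ ≤ Subgroup.normalizer ((centerThompsonOf p P : Subgroup Γ) : Set Γ)
    rw [← Fusion.zElem_eq]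
    exact Fusion.normalizer_le_zElem P
  have hZP : Z ≤ P := by
    show centerThompsonOf p P ≤ P
    rw [← Fusion.zElem_eq]; exact Fusion.zElem_le P
  have hZi : S.Inv Z := ⟨hZP.trans hPi.1, hPi.2.trans hnorm⟩
  have hZb : Z ≠ ⊥ := by
    show centerThompsonOf p P ≠ ⊥
    rw [← Fusion.inducedFunctor_wZE, inducedFunctor, Ne,
      Subgroup.map_eq_bot_iff_of_injective _ P.subtype_injective]
    exact Fusion.isCharPFunctor_wZE.1 P (syl_pgroup p) ((Subgroup.nontrivial_iff_ne_bot _).2 hne)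
  set N := S.K ⊓ Subgroup.normalizer (Z : Set Γ)
  have hNi : S.Inv N := S.inv_K.inf_norm hZi.2
  have hNK : N ≠ S.K := norm_ne_K hZi hZb (pgroup_ne_K ((syl_pgroup p).to_le hZP))
  have hPN : P ≤ N := le_inf hPi.1 (Subgroup.le_normalizer.trans hnorm)
  -- `N` has a normal `p`-complement
  obtain ⟨D, hDi, hDN, hDπ, hDmax⟩ := hall hNi hNK {q | q ≠ p}
  have hPT : ∀ (t : ℕ) [Fact t.Prime], t ≠ p → P ≤ Subgroup.normalizer ((N ⊓ S.syl t : Subgroup Γ) : Set Γ) := by
    intro t _ htp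
    obtain ⟨U, hU, hUN, hUπ, hUmax⟩ := hall hNi hNK {p, t}
    have hPU : P ≤ U := hUmax P hPi hPN (pi_syl_left le_rfl)
    have hTU : N ⊓ S.syl t ≤ U := hUmax _ (hNi.inf (syl_inv t)) inf_le_left (pi_syl_right inf_le_right)
    have hTO : N ⊓ S.syl t ≤ pCoreOf t U := by
      refine le_core_of_centralizes hU (pi_ne_K hUπ) (hUπ.mono (Set.pair_comm p t).subset) hTU
        inf_le_right ?_
      exact hcent _ _ (hNi.inf (syl_inv t)) (inv_core hU) (core_le_syl hU)
        (pgroup_coprime htp ((syl_pgroup t).to_le inf_le_right))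
        (hTU.trans (Fusion.le_normalizer_pCoreOf U))
    have he : pCoreOf t U = N ⊓ S.syl t := le_antisymm
      (le_inf ((Fusion.pCoreOf_le U).trans hUN) (core_le_syl hU)) hTO
    exact he ▸ hPU.trans (Fusion.le_normalizer_pCoreOf U)
  have hTD : ∀ (t : ℕ) [Fact t.Prime], t ≠ p → N ⊓ S.syl t ≤ D := fun t _ htp =>
    hDmax _ (hNi.inf (syl_inv t)) inf_le_left
      ((isPi_of_pgroup (syl_pgroup t) (show t ∈ {q | q ≠ p} from htp)).to_le inf_le_right)
  have hsup : P ⊔ D = N := le_antisymm (sup_le hPN hDN) (le_of_syl hNi fun t ht _ => by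
    by_cases htp : t = p
    · subst htp; exact inf_le_right.trans le_sup_left
    · exact (hTD t htp).trans le_sup_right)
  have hPD : P ≤ Subgroup.normalizer (D : Set Γ) := by
    refine le_normalizer_of_conj fun x hx y hy => ?_
    suffices h : D ≤ D.comap (MulAut.conj x).toMonoidHom from h hy
    refine le_of_syl hDi fun t ht hd => ?_
    have htp : t ≠ p := hDπ t ht.out hd
    intro z hz
    exact hTD t htp (conj_mem_of_mem_normalizer (hPT t htp hx) ⟨hDN hz.1, hz.2⟩)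
  have hND : N ≤ Subgroup.normalizer (D : Set Γ) := hsup ▸ sup_le hPD Subgroup.le_normalizer
  have hco : (Nat.card D).Coprime p := coprime_of_isPi hDπ fun q hq hd h =>
    h ((Nat.prime_dvd_prime_iff_eq hq hp.out).1 hd)
  -- apply Glauberman–Thompson inside `K`
  obtain ⟨Q, hQ⟩ := (syl_isSylIn (S := S) p).exists_sylow
  have hZQ : (centerThompsonOf p (Q : Subgroup S.K)).map S.K.subtype = Z := by
    show _ = centerThompsonOf p P
    rw [← Fusion.inducedFunctor_wZE, ← Fusion.inducedFunctor_wZE,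
      ← Fusion.inducedFunctor_map_of_injOn Fusion.isCharPFunctor_wZE S.K.subtype
      S.K.subtype_injective.injOn Q.isPGroup', hQ]
  obtain ⟨L, hL⟩ : ∃ L, L = Subgroup.normalizer (centerThompsonOf p (Q : Subgroup S.K) : Set S.K) :=
    ⟨_, rfl⟩
  have hLN : L.map S.K.subtype ≤ N := by
    rintro _ ⟨g, hg, rfl⟩
    refine ⟨g.2, mem_normalizer_of_conj_smul ?_⟩
    rw [hL] at hg
    have := congrArg (Subgroup.map S.K.subtype) (conj_smul_of_mem_normalizer hg)
    rwa [map_conj_smul, hZQ] at this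
  refine not_hnpc hne ((S0117.result hp2 Q).2 ?_)
  rw [← hL]
  let f : L →* N := (S.K.subtype.comp L.subtype).codRestrict N
    fun g => hLN (Subgroup.mem_map_of_mem _ g.2)
  refine Fusion.hnpc_of_injective f (fun a b h => Subtype.ext (Subtype.ext (congrArg Subtype.val h :))) ?_
  have hPs : IsSylIn p P N := by
    have h := inf_syl_isSylIn (S := S) (p := p) hNi
    rwa [inf_eq_right.2 hPN] at h
  obtain ⟨QN, hQN⟩ := hPs.exists_sylow
  refine ⟨QN, D.subgroupOf N, Subgroup.normal_subgroupOf_of_le_normalizer hND, ?_⟩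
  refine Subgroup.isComplement'_of_disjoint_and_mul_eq_univ ?_ ?_
  · rw [disjoint_iff]
    exact Fusion.coprime_inf_pGroup (by rwa [card_subgroupOf hDN]) QN.isPGroup'
  · have hn : (D.subgroupOf N).Normal := Subgroup.normal_subgroupOf_of_le_normalizer hND
    rw [← Subgroup.normal_mul]
    have htop : D.subgroupOf N ⊔ (QN : Subgroup N) = ⊤ := by
      apply Subgroup.map_injective N.subtype_injective
      rw [Subgroup.map_sup, Subgroup.map_subgroupOf_eq_of_le hDN, hQN, ← MonoidHom.range_eq_map,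
        Subgroup.range_subtype, sup_comm, hsup]
    rw [htop]
    exact Subgroup.coe_top

theorem not_bad {p s : ℕ} [Fact p.Prime] [Fact s.Prime] (hps : p ≠ s) : ¬ S.Bad p s := by
  intro hbad
  suffices main : ∀ {p s : ℕ} [Fact p.Prime] [Fact s.Prime], p ≠ s → p ≠ 2 → S.Bad p s → False by
    by_cases hp2 : p = 2
    · exact main (Ne.symm hps) (fun h => hps (hp2.trans h.symm)) hbad.symm
    · exact main hps hp2 hbad
  intro p s _ _ hps hp2 hbad
  obtain ⟨l, hl, m, hm, hl1, hlm, hSl, hSm⟩ := exists_second_piece (bad_ne_bot hbad.symm)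
  exact false_of_fixfree_two hp2 (bad_ne_bot hbad) hl hl1 hm hlm
    ((piece_bot hps hbad hl hl1).resolve_right hSl)
    ((piece_bot hps hbad hm (out_ne_one hlm)).resolve_right hSm)

end Ctx

end Cfsg.Agent.Solv.TwoRankAbelian
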